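import Groth.Agent.LocalGenLib.Free
import Mathlib.Topology.Sheaves.Points
import Mathlib.Topology.Sheaves.Stalks
import Mathlib.RingTheory.LocalRing.Module
import Mathlib.RingTheory.OrzechProperty

/-!
# Ringed spaces
-/

set_option autoImplicit false
set_option linter.style.haveILetI false
set_option backward.isDefEq.respectTransparency false
universe u

open CategoryTheory Limits Opposite TopologicalSpace Groth.Agent.ModSiteLib
  Groth.Agent.ModSiteLib.SetPull ModSiteLib Groth.Agent.ModSiteLib.FlatStalk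

namespace Groth.Agent.LocalGenLib

section Retract

variable {C : Type u} [SmallCategory C] {J : GrothendieckTopology C} {O : Sheaf J CommRingCat.{u}}

/-- The sections corresponding to a basis. -/
noncomputable def isoSec {H : ModSite.Mod O} {U : C} {n : ℕ}
    (h : (ModSite.restr O U).obj H ≅ SheafOfModules.free (ULift.{u} (Fin n))) (a : ULift.{u} (Fin n)) :
    Sec H U :=
  ap h.symm.hom (Over.mk (𝟙 U)) (freeSec (O.over U) (Over.mk (𝟙 U)) _ a)

theorem ap_hom_res {H : ModSite.Mod O} {U : C} {n : ℕ}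
    (h : (ModSite.restr O U).obj H ≅ SheafOfModules.free (ULift.{u} (Fin n))) (V : Over U)
    (a : ULift.{u} (Fin n)) :
    ap h.symm.hom V (res ((jP (O.over U)).obj (SheafOfModules.free (ULift.{u} (Fin n))))
        ((Over.mkIdTerminal : IsTerminal (Over.mk (𝟙 U))).from V).op
        (freeSec (O.over U) (Over.mk (𝟙 U)) _ a)) =
      res ((jP O).obj H) V.hom.op (isoSec h a) := by
  refine (app_res ((jP (O.over U)).map h.symm.hom)
    ((Over.mkIdTerminal : IsTerminal (Over.mk (𝟙 U))).from V).op _).trans ?_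
  exact congrArg (fun l : V.left ⟶ U => res ((jP O).obj H) l.op (isoSec h a)) (terminal_from_left V)

theorem genBy_isoSec {H : ModSite.Mod O} {U : C} {n : ℕ}
    (h : (ModSite.restr O U).obj H ≅ SheafOfModules.free (ULift.{u} (Fin n))) :
    GenBy H U (fun a : Fin n => isoSec h ⟨a⟩) := by
  let T : Over U := Over.mk (𝟙 U)
  let hT : IsTerminal T := Over.mkIdTerminal
  let s : ULift.{u} (Fin n) → Sec H U := isoSec h
  intro V g z
  obtain ⟨S, hS, hp⟩ := loc_free hT (ap h.hom (Over.mk g) z)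
  refine ⟨Sieve.overEquiv (Over.mk g) S, hS, fun V' g' hg' => ?_⟩
  rw [Sieve.overEquiv_iff] at hg'
  obtain ⟨d, hd⟩ := hp _ hg'
  refine ⟨fun a => d ⟨a⟩, ?_⟩
  let g₁ : Over.mk (g' ≫ (Over.mk g).hom) ⟶ Over.mk g := Over.homMk g'
  have hz : ap h.symm.hom (Over.mk g) (ap h.hom (Over.mk g) z) = z := by
    refine (ap_comp h.hom h.symm.hom (Over.mk g) z).symm.trans ?_
    rw [Iso.symm_hom, Iso.hom_inv_id]
    rfl
  refine (congrArg (res ((jP O).obj H) g'.op) hz.symm).trans ?_
  refine (app_res ((jP (O.over U)).map h.symm.hom) g₁.op _).symm.trans ?_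
  refine (congrArg (ap h.symm.hom _) hd).trans ?_
  rw [ap_sum]
  refine Eq.trans (Finset.sum_congr rfl fun i _ => ?_)
    (Equiv.ulift.{u}.sum_comp fun a => d ⟨a⟩ • res ((jP O).obj H) (g' ≫ g).op (s ⟨a⟩))
  exact (ap_smul _ _ _ _).trans (congrArg (d i • ·) (ap_hom_res h _ i))

theorem indep_isoSec {H : ModSite.Mod O} {U : C} {n : ℕ}
    (h : (ModSite.restr O U).obj H ≅ SheafOfModules.free (ULift.{u} (Fin n))) {W : C} (k : W ⟶ U)
    (f : Fin n → O.obj.obj (op W))
    (hf : ∑ a, f a • res ((jP O).obj H) k.op (isoSec h ⟨a⟩) = 0) (a : Fin n) : f a = 0 := by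
  let T : Over U := Over.mk (𝟙 U)
  let hT : IsTerminal T := Over.mkIdTerminal
  let s : ULift.{u} (Fin n) → Sec H U := isoSec h
  let T' : Over U := Over.mk k
  let FL := SheafOfModules.free (R := ModSite.ringSh (O.over U)) (ULift.{u} (Fin n))
  let y : Sec FL T' := ∑ j : ULift.{u} (Fin n), f j.down •
    res ((jP (O.over U)).obj FL) (hT.from T').op (freeSec (O.over U) T _ j)
  have hy : ap h.symm.hom T' y = 0 := by
    refine (ap_sum h.symm.hom _ _ _).trans (Eq.trans ?_ hf)
    refine Eq.trans (Finset.sum_congr rfl fun j _ => ?_)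
      (Equiv.ulift.{u}.sum_comp fun a => f a • res ((jP O).obj H) k.op (s ⟨a⟩))
    refine (ap_smul _ _ _ _).trans (congrArg (f j.down • ·) ?_)
    refine (app_res ((jP (O.over U)).map h.symm.hom) (hT.from T').op _).trans ?_
    exact congrArg (fun l : W ⟶ U => res ((jP O).obj H) l.op (s j)) (terminal_from_left T')
  have hy0 : y = 0 := by
    have h1 := congrArg (ap h.hom T') hy
    rw [ap_zero] at h1
    refine Eq.trans ?_ h1
    refine Eq.trans ?_ (ap_comp h.symm.hom h.hom T' y)
    rw [Iso.symm_hom, Iso.inv_hom_id]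
    rfl
  let pr : FL ⟶ ModSite.unit (O.over U) :=
    freeLift hT fun j => (show O.obj.obj (op U) from if j.down = a then 1 else 0)
  have hpr : ∀ j, ap pr T' (res ((jP (O.over U)).obj FL) (hT.from T').op
      (freeSec (O.over U) T _ j)) =
      rC (hT.from T').left (if j.down = a then 1 else 0) := fun j => by
    refine (app_res ((jP (O.over U)).map pr) _ _).trans ?_
    exact congrArg (fun r => res ((jP (O.over U)).obj (ModSite.unit (O.over U))) (hT.from T').op r)
      (ap_freeLift hT _ j)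
  have h2 := congrArg (ap pr T') hy0
  rw [ap_sum, ap_zero, Finset.sum_eq_single (⟨a⟩ : ULift.{u} (Fin n))] at h2
  · rw [ap_smul, hpr, if_pos rfl] at h2
    refine Eq.trans ?_ h2
    refine ((congrArg (fun r : O.obj.obj (op W) => f a * r) ?_).trans (mul_one _)).symm
    exact map_one _
  · intro j _ hj
    rw [ap_smul, hpr, if_neg fun e => hj (ULift.ext _ _ e)]
    refine (congrArg (fun r : O.obj.obj (op W) => f j.down * r) ?_).trans (mul_zero _)
    exact map_zero _
  · exact fun h => absurd (Finset.mem_univ _) h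

theorem presBy_retract {F H : ModSite.Mod O} (i : F ⟶ H) (q : H ⟶ F)
    (hqi : ∀ (W : C) (z : Sec F W), ap q W (ap i W z) = z) {V : C} {n : ℕ} {s : Fin n → Sec H V}
    (hs' : GenBy H V s)
    (hind : ∀ {W : C} (k : W ⟶ V) (f : Fin n → O.obj.obj (op W)),
      ∑ a, f a • res ((jP O).obj H) k.op (s a) = 0 → ∀ a, f a = 0)
    (M : Fin n → Fin n → O.obj.obj (op V)) (hie : ∀ j, ap i V (ap q V (s j)) = ∑ a, M j a • s a) :
    PresBy F V (fun j => ap q V (s j)) (fun j a => (if j = a then 1 else 0) - M j a) := by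
  let e' : Fin n → Sec F V := fun j => ap q V (s j)
  refine ⟨fun {W} k z => ?_, fun j => ?_, fun {W} k f hf => ?_⟩
  · refine (hs' k (ap i W z)).mono fun W' k' ⟨d, hd⟩ => ⟨d, ?_⟩
    conv_lhs => rw [← hqi W z]
    refine (app_res ((jP O).map q) k'.op _).symm.trans ((congrArg (ap q W') hd).trans ?_)
    rw [ap_sum]
    exact Finset.sum_congr rfl fun a _ => (ap_smul _ _ _ _).trans
      (congrArg (d a • ·) (app_res ((jP O).map q) _ _))
  · simp only [sub_smul, ite_smul, one_smul, zero_smul, Finset.sum_sub_distrib,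
      Finset.sum_ite_eq, Finset.mem_univ, if_true]
    refine sub_eq_zero.2 ?_
    conv_lhs => rw [← hqi V (ap q V (s j)), hie j]
    rw [ap_sum]
    exact Finset.sum_congr rfl fun a _ => ap_smul _ _ _ _
  · refine Loc.of_forall fun W' k' => ⟨fun j => rC k' (f j), fun a => ?_⟩
    have h0 := congrArg (ap i W) hf
    rw [ap_sum, ap_zero] at h0
    have h1 : ∑ a, (∑ j, f j * rC k (M j a)) • res ((jP O).obj H) k.op (s a) = 0 := by
      refine Eq.trans ?_ h0
      simp only [Finset.sum_smul, mul_smul]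
      rw [Finset.sum_comm]
      refine Finset.sum_congr rfl fun j _ => ?_
      refine Eq.trans ?_ ((ap_smul _ _ _ _).trans (congrArg (f j • ·)
        ((app_res ((jP O).map i) k.op (e' j)).trans
          (congrArg (fun t => res ((jP O).obj H) k.op t) (hie j))))).symm
      rw [res_comb, Finset.smul_sum]
    have h2 := hind k _ h1 a
    have h3 : ∀ j, rC (k' ≫ k) ((if j = a then 1 else 0) - M j a) =
        (if j = a then 1 else 0) - rC k' (rC k (M j a)) := fun j => by
      refine (map_sub _ _ _).trans (congrArg₂ (· - ·) ?_ (rC_comp k k' _))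
      split
      · exact map_one _
      · exact map_zero _
    simp only [h3, mul_sub, Finset.sum_sub_distrib, mul_ite, mul_one, mul_zero,
      Finset.sum_ite_eq', Finset.mem_univ, if_true]
    have h4 : ∑ j, rC k' (f j) * rC k' (rC k (M j a)) = 0 := by
      refine Eq.trans ?_ ((congrArg (rC k') h2).trans (map_zero _))
      exact ((map_sum _ _ _).trans (Finset.sum_congr rfl fun j _ => map_mul _ _ _)).symm
    rw [h4, sub_zero]

end Retract

variable {X : TopCat.{u}} {O : TopCat.Sheaf CommRingCat.{u} X}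

/-- The point of the site at `x`. -/
abbrev pt (x : X) := Opens.pointGrothendieckTopology x

abbrev fib {U : Opens X} {x : X} (h : x ∈ U) : (pt x).fiber.obj U := ⟨⟨h⟩⟩

theorem mem_of_fib {U : Opens X} {x : X} (v : (pt x).fiber.obj U) : x ∈ U := v.down.down

theorem exists_nhd_of_locally {P : Opens X → Prop}
    (h : LocallyEverywhere (Opens.grothendieckTopology X) P) (x : X) :
    ∃ U : Opens X, x ∈ U ∧ P U := by
  obtain ⟨V, g, w, -, hV⟩ := loc_point (pt x) (h ⊤) (fib (show x ∈ (⊤ : Opens X) from trivial))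
  exact ⟨V, mem_of_fib w, hV⟩

theorem isIso_of_stalks {F G : ModSite.Mod O} (φ : F ⟶ G)
    (h : ∀ x : X, Function.Bijective (ModSite.stalkMap (pt x) φ).hom) : IsIso φ := by
  haveI : Mono φ := by
    refine mono_of_injective_ap φ fun U => (injective_iff_map_eq_zero
      (((jP O).map φ).app (op U)).hom.toAddMonoidHom).2 fun s hs => ?_
    refine sec_eq_zero_of_loc F s ⟨Sieve.ofArrows _ (fun a : {a : Σ V, V ⟶ U //
      res ((jP O).obj F) a.2.op s = 0} => a.1.2), fun x hx => ?_, ?_⟩
    · have h0 : ModSite.germ (pt x) F U (fib hx) s = ModSite.germ (pt x) F U (fib hx) 0 := by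
        refine (h x).1 ((germ_map (pt x) φ _ s).trans ((congrArg _ (show ap φ U s = 0 from hs)).trans ?_))
        exact (germ_zero (pt x) G _).trans
          ((congrArg _ (germ_zero (pt x) F _)).trans (map_zero _)).symm
      obtain ⟨V, g, v, -, -, hv⟩ := exists_eq (pt x) F (ι := Empty) (κ := Unit) (fib hx)
        Empty.elim Empty.elim (fun _ => s) (fun _ => 0) (fun i => i.elim) (fun _ => h0)
      exact ⟨V, g, Sieve.ofArrows_mk _ _ (⟨⟨V, g⟩, (hv ()).trans (res_zero' g)⟩ : {a : Σ V, V ⟶ U //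
        res ((jP O).obj F) a.2.op s = 0}), mem_of_fib v⟩
    · rintro V g hg
      obtain ⟨W, a, _, ⟨i⟩, rfl⟩ := hg
      exact (res_op_comp _ _ _).trans ((congrArg (res ((jP O).obj F) a.op) i.2).trans (res_zero' a))
  haveI : Epi φ := by
    refine epi_of_loc_surjective φ fun U t => ⟨Sieve.ofArrows _ (fun a : {a : Σ V, V ⟶ U //
      ∃ p, ap φ a.1 p = res ((jP O).obj G) a.2.op t} => a.1.2), fun x hx => ?_, ?_⟩
    · obtain ⟨m, hm⟩ := (h x).2 (ModSite.germ (pt x) G U (fib hx) t)
      obtain ⟨W, g, w, s, hg, rfl⟩ := exists_germ_over (pt x) F (fib hx) m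
      rw [germ_map, ← germ_res_of_eq (pt x) G hg t] at hm
      obtain ⟨V, k, v, -, -, hk⟩ := exists_eq (pt x) G (ι := Empty) (κ := Unit) w Empty.elim Empty.elim
        (fun _ => ap φ W s) (fun _ => res ((jP O).obj G) g.op t) (fun i => i.elim) (fun _ => hm)
      exact ⟨V, k ≫ g, Sieve.ofArrows_mk _ _ (⟨⟨V, k ≫ g⟩, res ((jP O).obj F) k.op s,
        (app_res ((jP O).map φ) k.op s).trans ((hk ()).trans (res_op_comp _ _ _).symm)⟩ :
        {a : Σ V, V ⟶ U // ∃ p, ap φ a.1 p = res ((jP O).obj G) a.2.op t}), mem_of_fib v⟩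
    · rintro V g hg
      obtain ⟨W, a, _, ⟨i⟩, rfl⟩ := hg
      obtain ⟨q, hq⟩ := i.2
      exact ⟨res ((jP O).obj F) a.op q, (app_res ((jP O).map φ) a.op q).trans
        ((congrArg (fun r => res ((jP O).obj G) a.op r) hq).trans (res_op_comp _ _ _).symm)⟩
  exact isIso_of_mono_of_epi φ

theorem exists_epi_restr {G F : ModSite.Mod O} (φ : G ⟶ F) [SheafOfModules.IsFiniteType.{u} F] (x : X)
    (hx : Function.Surjective (ModSite.stalkMap (pt x) φ).hom) :
    ∃ U : Opens X, x ∈ U ∧ Epi ((ModSite.restr O U).map φ) := by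
  obtain ⟨U, hxU, n, e, he⟩ := exists_nhd_of_locally (locally_hasGen F) x
  choose m hm using fun a => hx (ModSite.germ (pt x) F U (fib hxU) (e a))
  obtain ⟨W, g, w, -, s, hg, -, hs⟩ :=
    exists_lifts (pt x) G (ι := Empty) Empty.elim m (fib hxU)
  obtain ⟨V, k, v, -, -, hk⟩ := exists_eq (pt x) F (ι := Empty) w Empty.elim Empty.elim
    (fun a => ap φ W (s a)) (fun a => res ((jP O).obj F) g.op (e a)) (fun i => i.elim) (fun a => by
      rw [← germ_map, hs, hm, germ_res_of_eq (pt x) F hg])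
  exact ⟨V, mem_of_fib v, epi_restr_of_lifts φ (he.res (k ≫ g)) (fun a => res ((jP O).obj G) k.op (s a))
    fun a => (app_res ((jP O).map φ) k.op (s a)).trans ((hk a).trans (res_op_comp _ _ _).symm)⟩

theorem exists_free_of_basis (F : ModSite.Mod O) [SheafOfModules.IsFinitePresentation.{u} F] (x : X)
    {r : ℕ} (b : Module.Basis (Fin r) (ModSite.stalkRing (pt x) O) (ModSite.stalkAb (pt x) F)) :
    ∃ U : Opens X, x ∈ U ∧
      Nonempty ((ModSite.restr O U).obj F ≅ SheafOfModules.free (ULift.{u} (Fin r))) := by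
  obtain ⟨U, hxU, n, m, e, c, he⟩ := exists_nhd_of_locally (locally_hasPres F) x
  obtain ⟨V, g, w, -, hV⟩ := exists_free_near (pt x) he (fib hxU) b
  exact ⟨V, mem_of_fib w, hV⟩

/-- The stalk of the structure sheaf as the stalk ring of the point. -/
theorem nonempty_stalkRing_equiv (x : X) :
    Nonempty (ModSite.stalkRing (pt x) O ≃+* O.presheaf.stalk x) := by
  let c : Cocone ((CategoryOfElements.π (pt x).fiber).op ⋙ O.obj) :=
    { pt := O.presheaf.stalk x
      ι := { app := fun i => O.presheaf.germ i.unop.1 x i.unop.2.down.down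
             naturality := fun i j f =>
               (O.presheaf.germ_res (f.unop.1) x j.unop.2.down.down).trans (Category.comp_id _).symm } }
  let ψ : ModSite.stalkRing (pt x) O ⟶ O.presheaf.stalk x := colimit.desc _ c
  have hψ : ∀ (U : Opens X) (v : (pt x).fiber.obj U) (r : O.obj.obj (op U)),
      ψ.hom (ModSite.germRing (pt x) U v r) = (O.presheaf.germ U x v.down.down).hom r := fun U v r =>
    congrArg (fun f => f.hom r) (colimit.ι_desc c (op ⟨U, v⟩))
  refine ⟨RingEquiv.ofBijective ψ.hom ⟨(injective_iff_map_eq_zero _).2 fun a ha => ?_, fun a => ?_⟩⟩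
  · obtain ⟨U, v, r, rfl⟩ := (pt x).toPresheafFiber_jointly_surjective (P := O.obj) a
    have ha' : (O.presheaf.germ U x v.down.down).hom r = (O.presheaf.germ U x v.down.down).hom 0 :=
      (hψ U v r).symm.trans (ha.trans (map_zero _).symm)
    obtain ⟨W, hxW, i₁, i₂, hW⟩ := O.presheaf.germ_eq x v.down.down v.down.down r 0 ha'
    refine (germRing_res_of_eq (pt x) (g := i₁) (w := fib hxW) (v := v) (Subsingleton.elim _ _) r).symm.trans ?_
    rw [show rC i₁ r = (0 : O.obj.obj (op W)) from hW.trans (map_zero _)]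
    exact germRing_zero _ _
  · obtain ⟨U, hxU, r, rfl⟩ := O.presheaf.germ_exist a
    exact ⟨_, hψ U (fib hxU) r⟩

theorem isIso_of_epi_of_rank {F G : ModSite.Mod O} (r : ℕ)
    (hF : ∀ x : X, ∃ U : Opens X, x ∈ U ∧
      Nonempty ((ModSite.restr O U).obj F ≅ SheafOfModules.free (ULift.{u} (Fin r))))
    (hG : ∀ x : X, ∃ U : Opens X, x ∈ U ∧
      Nonempty ((ModSite.restr O U).obj G ≅ SheafOfModules.free (ULift.{u} (Fin r))))
    (φ : F ⟶ G) [Epi φ] : IsIso φ := by
  refine isIso_of_stalks φ fun x => ?_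
  obtain ⟨U, hU, ⟨i⟩⟩ := hF x
  obtain ⟨V, hV, ⟨j⟩⟩ := hG x
  obtain ⟨bF, -⟩ := exists_basis_of_iso (pt x) i.symm (fib hU)
  obtain ⟨bG, -⟩ := exists_basis_of_iso (pt x) j.symm (fib hV)
  have hs : Function.Surjective (ModSite.stalkMap (pt x) φ).hom := surjective_stalkMap (pt x) φ
  let ψ := bG.equiv bF (Equiv.refl _)
  haveI : Module.Finite (ModSite.stalkRing (pt x) O) (ModSite.stalkAb (pt x) G) := Module.Finite.of_basis bG
  have h2 : Function.Surjective ((ModSite.stalkMap (pt x) φ).hom.comp ψ.toLinearMap) :=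
    hs.comp ψ.surjective
  have h3 := OrzechProperty.injective_of_surjective_endomorphism _ h2
  exact ⟨fun a c hac => by
    obtain ⟨a, rfl⟩ := ψ.surjective a
    obtain ⟨c, rfl⟩ := ψ.surjective c
    rw [h3 hac], hs⟩

theorem exists_free_of_retract (x : X) [hloc : IsLocalRing (O.presheaf.stalk x)] {F H : ModSite.Mod O}
    {U : Opens X} {n : ℕ} (hx : x ∈ U)
    (h : (ModSite.restr O U).obj H ≅ SheafOfModules.free (ULift.{u} (Fin n)))
    (i : F ⟶ H) (q : H ⟶ F) (hiq : i ≫ q = 𝟙 F) :
    ∃ (V : Opens X) (m : ℕ), x ∈ V ∧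
      Nonempty ((ModSite.restr O V).obj F ≅ SheafOfModules.free (ULift.{u} (Fin m))) := by
  classical
  obtain ⟨eR⟩ := nonempty_stalkRing_equiv (O := O) x
  haveI : IsLocalRing (ModSite.stalkRing (pt x) O) := eR.symm.isLocalRing
  obtain ⟨bH, hbH⟩ := exists_basis_of_iso (pt x) h.symm (fib hx)
  have hqi : ∀ (W : Opens X) (z : Sec F W), ap q W (ap i W z) = z := fun W z => by
    rw [← ap_comp, hiq]
    rfl
  have hR : (ModSite.stalkMap (pt x) q).hom.comp (ModSite.stalkMap (pt x) i).hom = LinearMap.id := by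
    refine LinearMap.ext fun m => ?_
    obtain ⟨W, w, s, rfl⟩ := (pt x).toPresheafFiber_jointly_surjective (P := (ModSite.toAb F).obj) m
    refine (congrArg (ModSite.stalkMap (pt x) q).hom (germ_map (pt x) i w s)).trans ?_
    refine (germ_map (pt x) q w _).trans ?_
    rw [hqi]
    rfl
  haveI : Module.Finite (ModSite.stalkRing (pt x) O) (ModSite.stalkAb (pt x) H) := Module.Finite.of_basis bH
  haveI : Module.Free (ModSite.stalkRing (pt x) O) (ModSite.stalkAb (pt x) H) := Module.Free.of_basis bH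
  have hsurj : Function.Surjective (ModSite.stalkMap (pt x) q).hom := fun m =>
    ⟨(ModSite.stalkMap (pt x) i).hom m, congrArg (fun f => f m) hR⟩
  haveI : Module.Finite (ModSite.stalkRing (pt x) O) (ModSite.stalkAb (pt x) F) :=
    Module.Finite.of_surjective _ hsurj
  haveI : Module.Projective (ModSite.stalkRing (pt x) O) (ModSite.stalkAb (pt x) F) :=
    Module.Projective.of_split _ _ hR
  haveI : Module.Free (ModSite.stalkRing (pt x) O) (ModSite.stalkAb (pt x) F) :=
    Module.free_of_flat_of_isLocalRing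
  let b := Module.finBasis (ModSite.stalkRing (pt x) O) (ModSite.stalkAb (pt x) F)
  -- the standard presentation of `H` near `x`
  let s : ULift.{u} (Fin n) → Sec H U := isoSec h
  have hs : GenBy H U (fun a : Fin n => s ⟨a⟩) := genBy_isoSec h
  obtain ⟨V, g, v, -, hM⟩ := loc_point (pt x)
    (Loc.forall_finset (Finset.univ : Finset (Fin n)) fun j _ => hs (𝟙 U) (ap i U (ap q U (s ⟨j⟩))))
    (fib hx)
  choose M hM using fun j => hM j (Finset.mem_univ j)
  have hs' : GenBy H V (fun a : Fin n => res ((jP O).obj H) g.op (s ⟨a⟩)) := hs.res g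
  have hind : ∀ {W : Opens X} (k : W ⟶ V) (f : Fin n → O.obj.obj (op W)),
      ∑ a, f a • res ((jP O).obj H) k.op (res ((jP O).obj H) g.op (s ⟨a⟩)) = 0 → ∀ a, f a = 0 :=
    fun k f hf => indep_isoSec h (k ≫ g) f
      ((Finset.sum_congr rfl fun a _ => by rw [res_op_comp]).trans hf)
  -- the presentation of `F`
  let e' : Fin n → Sec F V := fun j => ap q V (res ((jP O).obj H) g.op (s ⟨j⟩))
  have hie : ∀ j, ap i V (e' j) = ∑ a, M j a • res ((jP O).obj H) g.op (s ⟨a⟩) := fun j => by
    have := hM j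
    simp only [Category.comp_id] at this
    refine Eq.trans ?_ this
    refine (congrArg (ap i V) (app_res ((jP O).map q) g.op (s ⟨j⟩))).trans ?_
    exact app_res ((jP O).map i) g.op _
  have hP := presBy_retract i q hqi hs' hind M hie
  obtain ⟨W, k, w, -, hW⟩ := exists_free_near (pt x) hP v b
  exact ⟨W, _, mem_of_fib w, hW⟩

theorem exists_rank [hN : ∀ x : X, Nontrivial (O.presheaf.stalk x)] (F : ModSite.Mod O)
    (hF : ∀ x : X, ∃ (U : Opens X) (I : Type u), x ∈ U ∧
      Nonempty ((ModSite.restr O U).obj F ≅ SheafOfModules.free I)) :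
    ∃ rk : X → ℕ∞, IsLocallyConstant rk ∧
      ∀ (x : X) (U : Opens X) (I : Type u), x ∈ U →
        Nonempty ((ModSite.restr O U).obj F ≅ SheafOfModules.free I) → ENat.card I = rk x := by
  choose U I hU hI using hF
  have key : ∀ (x : X) (V : Opens X) (K : Type u), x ∈ V →
      Nonempty ((ModSite.restr O V).obj F ≅ SheafOfModules.free K) → ENat.card K = ENat.card (I x) := by
    rintro x V K hxV ⟨j⟩
    obtain ⟨eR⟩ := nonempty_stalkRing_equiv (O := O) x
    haveI : Nontrivial (ModSite.stalkRing (pt x) O) := eR.toEquiv.nontrivial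
    obtain ⟨i⟩ := hI x
    obtain ⟨b₁, -⟩ := exists_basis_of_iso (pt x) j.symm (fib hxV)
    obtain ⟨b₂, -⟩ := exists_basis_of_iso (pt x) i.symm (fib (hU x))
    exact ENat.card_congr (b₁.indexEquiv b₂)
  refine ⟨fun x => ENat.card (I x), ?_, key⟩
  rw [IsLocallyConstant.iff_exists_open]
  exact fun x => ⟨U x, (U x).isOpen, hU x, fun y hy => (key y (U x) (I x) hy (hI x)).symm⟩

end Groth.Agent.LocalGenLib
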