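import Groth.Agent.ModSiteLib.LocalFactor

/-!
# Finite type and finite presentation of sheaves of modules, by local sections
-/

set_option autoImplicit false
set_option linter.style.haveILetI false
set_option backward.isDefEq.respectTransparency false
universe u

open CategoryTheory Limits Opposite Groth.Agent.ModSiteLib Groth.Agent.ModSiteLib.SetPull ModSiteLib

namespace Groth.Agent.LocalGenLib

variable {C : Type u} [SmallCategory C] {J : GrothendieckTopology C} {O : Sheaf J CommRingCat.{u}}

/-- The sections `e` over `U` locally generate `F` on `C/U`. -/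
def GenBy (F : ModSite.Mod O) (U : C) {ι : Type} [Fintype ι] (e : ι → Sec F U) : Prop :=
  ∀ {V : C} (g : V ⟶ U) (x : Sec F V), Loc J V fun V' g' =>
    ∃ d : ι → O.obj.obj (op V'),
      res ((jP O).obj F) g'.op x = ∑ a, d a • res ((jP O).obj F) (g' ≫ g).op (e a)

/-- `F` is generated by finitely many sections over `U`. -/
def HasGen (F : ModSite.Mod O) (U : C) : Prop :=
  ∃ (n : ℕ) (e : Fin n → Sec F U), GenBy F U e

lemma res_op_comp {F : ModSite.Mod O} {A B E : C} (g : B ⟶ A) (h : E ⟶ B) (x : Sec F A) :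
    res ((jP O).obj F) (h ≫ g).op x = res ((jP O).obj F) h.op (res ((jP O).obj F) g.op x) := by
  rw [op_comp, res_comp]

lemma res_comb {F : ModSite.Mod O} {ι : Type*} [Fintype ι] {A B : C} (g : B ⟶ A)
    (d : ι → O.obj.obj (op A)) (e : ι → Sec F A) :
    res ((jP O).obj F) g.op (∑ a, d a • e a) = ∑ a, rC g (d a) • res ((jP O).obj F) g.op (e a) := by
  rw [res_sum]
  exact Finset.sum_congr rfl fun a _ => res_smul _ _ _ _

theorem GenBy.comp_equiv {F : ModSite.Mod O} {U : C} {ι κ : Type} [Fintype ι] [Fintype κ]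
    {e : ι → Sec F U} (h : GenBy F U e) (σ : κ ≃ ι) : GenBy F U (e ∘ σ) := fun g x =>
  (h g x).mono fun V' g' ⟨d, hd⟩ => ⟨d ∘ σ, hd.trans
    (σ.sum_comp fun a => d a • res ((jP O).obj F) (g' ≫ g).op (e a)).symm⟩

theorem GenBy.hasGen {F : ModSite.Mod O} {U : C} {ι : Type} [Fintype ι] {e : ι → Sec F U}
    (h : GenBy F U e) : HasGen F U :=
  ⟨_, _, h.comp_equiv (Fintype.equivFin ι).symm⟩

theorem GenBy.res {F : ModSite.Mod O} {U U' : C} {ι : Type} [Fintype ι] {e : ι → Sec F U}
    (h : GenBy F U e) (k : U' ⟶ U) :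
    GenBy F U' (fun a => ModSiteLib.res ((jP O).obj F) k.op (e a)) := fun g x =>
  (h (g ≫ k) x).mono fun V' g' ⟨d, hd⟩ => ⟨d, hd.trans
    (Finset.sum_congr rfl fun a _ => by rw [← res_op_comp, Category.assoc])⟩

theorem HasGen.res {F : ModSite.Mod O} {U U' : C} (h : HasGen F U) (k : U' ⟶ U) : HasGen F U' := by
  obtain ⟨n, e, he⟩ := h
  exact ⟨n, _, he.res k⟩

/-- Finitely many generators of `F.over U` give generating sections. -/
theorem hasGen_of_generatingSections (F : ModSite.Mod O) (U : C)
    (G : ((ModSite.restr O U).obj F).GeneratingSections) [G.IsFiniteType] : HasGen F U := by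
  classical
  let T : Over U := Over.mk (𝟙 U)
  let hT : IsTerminal T := Over.mkIdTerminal
  haveI : Finite G.I := SheafOfModules.GeneratingSections.IsFiniteType.finite
  letI : Fintype G.I := Fintype.ofFinite _
  let eI := (Fintype.equivFin G.I).symm
  refine ⟨_, fun a => ap G.π T (freeSec (O.over U) T G.I (eI a)), ?_⟩
  intro V g x
  obtain ⟨S, hS, hp⟩ := (loc_of_epi (O := O.over U) G.π (V := Over.mk g) x).bind
    (q := fun V' (g' : V' ⟶ Over.mk g) => ∃ d : G.I → O.obj.obj (op V'.left),
      ModSiteLib.res ((jP O).obj F) g'.left.op x =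
        ∑ i, d i • ModSiteLib.res ((jP O).obj F) (hT.from V').left.op (ap G.π T (freeSec (O.over U) T G.I i)))
    fun V' g' ⟨q, hq⟩ => (loc_free hT q).mono fun V'' g'' ⟨d, hd⟩ => ⟨d, by
      show ModSiteLib.res ((jP (O.over U)).obj ((ModSite.restr O U).obj F)) (g'' ≫ g').op x = _
      rw [op_comp, ← res_comp, ← hq]
      refine (app_res ((jP (O.over U)).map G.π) g''.op q).symm.trans ?_
      refine (congrArg (ap G.π V'') hd).trans ?_
      rw [ap_sum]
      refine Finset.sum_congr rfl fun i _ => ?_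
      exact (ap_smul G.π V'' _ _).trans (congrArg (d i • ·)
        (app_res ((jP (O.over U)).map G.π) (hT.from V'').op _))⟩
  refine ⟨Sieve.overEquiv (Over.mk g) S, hS, fun V' g' hg' => ?_⟩
  rw [Sieve.overEquiv_iff] at hg'
  obtain ⟨d, hd⟩ := hp _ hg'
  refine ⟨fun a => d (eI a), hd.trans ?_⟩
  refine Eq.trans ?_ (eI.sum_comp fun i => d i • ModSiteLib.res ((jP O).obj F) (g' ≫ g).op
    (show Sec F U from ap G.π T (freeSec (O.over U) T G.I i))).symm
  refine Finset.sum_congr rfl fun i _ => ?_
  have hleft : (hT.from (Over.mk (g' ≫ (Over.mk g).hom))).left = g' ≫ g :=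
    (Category.comp_id _).symm.trans (Over.w (hT.from (Over.mk (g' ≫ (Over.mk g).hom))))
  rw [hleft]

section FromSections

variable {U : C}

/-- The map from a free module on `C/U` given by sections over `U`. -/
noncomputable def toRestr (F : ModSite.Mod O) {L : Type u} (e : L → Sec F U) :
    SheafOfModules.free (R := ModSite.ringSh (O.over U)) L ⟶ (ModSite.restr O U).obj F :=
  freeLift (T := Over.mk (𝟙 U)) Over.mkIdTerminal e

lemma terminal_from_left (V : Over U) :
    ((Over.mkIdTerminal : IsTerminal (Over.mk (𝟙 U))).from V).left = V.hom :=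
  (Category.comp_id _).symm.trans (Over.w ((Over.mkIdTerminal : IsTerminal (Over.mk (𝟙 U))).from V))

lemma ap_toRestr (F : ModSite.Mod O) {L : Type u} (e : L → Sec F U) (V : Over U) (i : L) :
    ap (toRestr F e) V (ModSiteLib.res ((jP (O.over U)).obj (SheafOfModules.free L))
        ((Over.mkIdTerminal : IsTerminal (Over.mk (𝟙 U))).from V).op
        (freeSec (O.over U) (Over.mk (𝟙 U)) L i)) =
      ModSiteLib.res ((jP O).obj F) V.hom.op (e i) := by
  let hT : IsTerminal (Over.mk (𝟙 U)) := Over.mkIdTerminal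
  have h1 : ap (toRestr F e) (Over.mk (𝟙 U)) (freeSec (O.over U) (Over.mk (𝟙 U)) L i) = e i :=
    ap_freeLift (T := Over.mk (𝟙 U)) hT (M := (ModSite.restr O U).obj F) e i
  refine (app_res ((jP (O.over U)).map (toRestr F e)) (hT.from V).op _).trans ?_
  refine (congrArg (fun t => ModSiteLib.res ((jP (O.over U)).obj ((ModSite.restr O U).obj F))
    (hT.from V).op t) h1).trans ?_
  exact congrArg (fun k : V.left ⟶ U => ModSiteLib.res ((jP O).obj F) k.op (e i))
    (terminal_from_left V)

theorem epi_toRestr {F : ModSite.Mod O} {ι : Type} [Fintype ι] {e : ι → Sec F U}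
    (he : GenBy F U e) : Epi (toRestr F (L := ULift.{u} ι) fun a => e a.down) := by
  refine epi_of_loc_surjective _ fun V x => ?_
  obtain ⟨S, hS, hp⟩ := he V.hom x
  refine ⟨(Sieve.overEquiv V).symm S, J.overEquiv_symm_mem_over V S hS, fun V' g' hg' => ?_⟩
  rw [Sieve.overEquiv_symm_iff] at hg'
  obtain ⟨d, hd⟩ := hp _ hg'
  refine ⟨∑ a : ULift.{u} ι, d a.down • ModSiteLib.res ((jP (O.over U)).obj (SheafOfModules.free (ULift.{u} ι)))
    ((Over.mkIdTerminal : IsTerminal (Over.mk (𝟙 U))).from V').op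
    (freeSec (O.over U) (Over.mk (𝟙 U)) _ a), ?_⟩
  rw [ap_sum]
  refine Eq.trans ?_ hd.symm
  refine Eq.trans ?_ (Equiv.ulift.sum_comp fun a =>
    d a • ModSiteLib.res ((jP O).obj F) (g'.left ≫ V.hom).op (e a))
  refine Finset.sum_congr rfl fun a _ => ?_
  refine (ap_smul _ V' _ _).trans (congrArg (d a.down • ·) ?_)
  refine (ap_toRestr F _ V' a).trans ?_
  show _ = ModSiteLib.res ((jP O).obj F) (g'.left ≫ V.hom).op (e a.down)
  rw [Over.w g']

/-- Generators of `F.over U` from sections. -/
noncomputable def generatorsOfGenBy {F : ModSite.Mod O} {ι : Type} [Fintype ι] {e : ι → Sec F U}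
    (he : GenBy F U e) : ((ModSite.restr O U).obj F).GeneratingSections where
  I := ULift.{u} ι
  s := ((ModSite.restr O U).obj F).freeHomEquiv (toRestr F fun a => e a.down)
  epi := by rw [Equiv.symm_apply_apply]; exact epi_toRestr he

instance {F : ModSite.Mod O} {ι : Type} [Fintype ι] {e : ι → Sec F U} (he : GenBy F U e) :
    (generatorsOfGenBy he).IsFiniteType where
  finite := inferInstanceAs (Finite (ULift.{u} ι))

lemma generatorsOfGenBy_π {F : ModSite.Mod O} {ι : Type} [Fintype ι] {e : ι → Sec F U}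
    (he : GenBy F U e) : (generatorsOfGenBy he).π = toRestr F fun a => e a.down :=
  ((ModSite.restr O U).obj F).freeHomEquiv.symm_apply_apply _

end FromSections

/-- Every object is covered by objects with property `P`. -/
def LocallyEverywhere (J : GrothendieckTopology C) (P : C → Prop) : Prop :=
  ∀ Y : C, Loc J Y fun V (_ : V ⟶ Y) => P V

theorem locally_hasGen (F : ModSite.Mod O) [hF : SheafOfModules.IsFiniteType.{u} F] :
    LocallyEverywhere J (HasGen F) := by
  obtain ⟨σ, hσ⟩ := hF.exists_localGeneratorsData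
  intro Y
  refine ⟨_, σ.coversTop Y, fun V g hg => ?_⟩
  obtain ⟨i, ⟨k⟩⟩ := (Sieve.mem_ofObjects_iff _ g).1 hg
  haveI := hσ.isFiniteType i
  exact (hasGen_of_generatingSections F (σ.X i) (σ.generators i)).res k

theorem isFiniteType_of_locally (F : ModSite.Mod O) (h : LocallyEverywhere J (HasGen F)) :
    SheafOfModules.IsFiniteType.{u} F := by
  have hcov : J.CoversTop fun i : {V : C // HasGen F V} => i.1 := fun Y => by
    obtain ⟨S, hS, hp⟩ := h Y
    refine J.superset_covering (fun V g hg => ?_) hS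
    exact (Sieve.mem_ofObjects_iff _ g).2 ⟨⟨V, hp g hg⟩, ⟨𝟙 _⟩⟩
  let q : SheafOfModules.LocalGeneratorsData.{u, u, u, u} (R := ModSite.ringSh O) F :=
    @SheafOfModules.LocalGeneratorsData.mk C _ J (ModSite.ringSh O) F _ _
      {V : C // HasGen F V} (fun i => i.1) hcov
      (fun i => generatorsOfGenBy i.2.choose_spec.choose_spec)
  have hq : q.IsFiniteType := by
    constructor
    intro i
    exact (inferInstance : (generatorsOfGenBy i.2.choose_spec.choose_spec).IsFiniteType)
  constructor
  exact ⟨q, hq⟩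

end Groth.Agent.LocalGenLib
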