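import Groth.Agent.LocalGenLib.Space
import Groth.Agent.ModSiteLib.CoprodQc
import Groth.Agent.ModSiteLib.Grothendieck
import Mathlib.CategoryTheory.Abelian.GrothendieckAxioms.Colim

/-!
# Directed colimits with finitely generated value
-/

set_option autoImplicit false
set_option linter.style.haveILetI false
set_option backward.isDefEq.respectTransparency false
universe u

open CategoryTheory Limits Opposite TopologicalSpace Groth.Agent.ModSiteLib
  Groth.Agent.ModSiteLib.SetPull ModSiteLib Groth.Agent.ModSiteLib.FlatStalk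

namespace Groth.Agent.LocalGenLib

section Site

variable {C : Type u} [SmallCategory C] {J : GrothendieckTopology C} {O : Sheaf J CommRingCat.{u}}
  {I : Type u} [Preorder I] [Nonempty I] [IsDirected I (· ≤ ·)] {D : I ⥤ ModSite.Mod O}
  {c : Cocone D}

theorem loc_colimit (hc : IsColimit c) {U : C} (t : Sec c.pt U) :
    Loc J U fun V g => ∃ (i : I) (y : Sec (D.obj i) V),
      ap (c.ι.app i) V y = res ((jP O).obj c.pt) g.op t := by
  classical
  let f : I → ModSite.Mod O := fun i => D.obj i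
  let π : (∐ f) ⟶ c.pt := Sigma.desc fun i => c.ι.app i
  haveI : Epi π := ⟨fun {Z} a b e => hc.hom_ext fun i => by
    have := congrArg (fun r => Sigma.ι f i ≫ r) e
    simpa [π, f] using this⟩
  refine (loc_of_epi π t).bind fun V g ⟨x, hx⟩ => ?_
  obtain ⟨S, hS, hS'⟩ := CoprodQcLib.loc_fixed f V x
  refine ⟨S, hS, fun W k hk => ?_⟩
  obtain ⟨s, hs⟩ := hS' k hk
  obtain ⟨j, hj⟩ := Finset.exists_le s
  let y : Sec (D.obj j) W := ∑ i ∈ s.attach, ap (D.map (homOfLE (hj i.1 i.2))) W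
    (ap (CoprodQcLib.prj f i.1) W (res ((jP O).obj (∐ f)) k.op x))
  refine ⟨j, y, ?_⟩
  rw [res_op_comp, ← hx]
  refine Eq.trans ?_ (app_res ((jP O).map π) k.op x)
  show _ = ap π W (res ((jP O).obj (∐ f)) k.op x)
  have hs' : res ((jP O).obj (∐ f)) k.op x = ∑ i ∈ s, ap (Sigma.ι f i) W
      (ap (CoprodQcLib.prj f i) W (res ((jP O).obj (∐ f)) k.op x)) :=
    hs.symm.trans (CoprodQcLib.keep_apply f s W _)
  rw [hs', ap_sum, ap_sum, ← Finset.sum_attach s fun i => ap π W _]
  refine Finset.sum_congr rfl fun i _ => ?_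
  refine (ap_comp (D.map (homOfLE (hj i.1 i.2))) (c.ι.app j) W _).symm.trans ?_
  refine Eq.trans ?_ (ap_comp (Sigma.ι f i.1) π W _)
  rw [Cocone.w, Sigma.ι_desc]
  rfl

end Site

variable {X : TopCat.{u}} {O : TopCat.Sheaf CommRingCat.{u} X}
  {I : Type u} [Preorder I] [Nonempty I] [IsDirected I (· ≤ ·)] {D : I ⥤ ModSite.Mod O}
  {c : Cocone D}

theorem exists_epi_ι [CompactSpace X] (hc : IsColimit c) [SheafOfModules.IsFiniteType.{u} c.pt] :
    ∃ i : I, Epi (c.ι.app i) := by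
  classical
  have h : ∀ x : X, ∃ V : Opens X, x ∈ V ∧ ∃ (n : ℕ) (e : Fin n → Sec c.pt V) (i : I)
      (y : Fin n → Sec (D.obj i) V), GenBy c.pt V e ∧ ∀ a, ap (c.ι.app i) V (y a) = e a := fun x => by
    obtain ⟨U, hxU, n, e, he⟩ := exists_nhd_of_locally (locally_hasGen c.pt) x
    obtain ⟨V, g, v, -, hV⟩ := loc_point (pt x)
      (Loc.forall_finset (Finset.univ : Finset (Fin n)) fun a _ => loc_colimit hc (e a)) (fib hxU)
    choose i y hy using fun a => hV a (Finset.mem_univ a)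
    obtain ⟨j, hj⟩ := Finset.exists_le (Finset.univ.image i)
    refine ⟨V, mem_of_fib v, n, _, j, fun a => ap (D.map (homOfLE (hj (i a)
      (Finset.mem_image_of_mem i (Finset.mem_univ a))))) V (y a), he.res g, fun a => ?_⟩
    refine (ap_comp _ (c.ι.app j) V _).symm.trans ?_
    rw [Cocone.w]
    exact hy a
  choose V hxV n e i y he hy using h
  obtain ⟨t, ht⟩ := CompactSpace.elim_nhds_subcover (fun x => (V x : Set X))
    (fun x => (V x).isOpen.mem_nhds (hxV x))
  obtain ⟨j, hj⟩ := Finset.exists_le (t.image i)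
  refine ⟨j, epi_of_loc_surjective _ fun W s => ⟨Sieve.ofArrows _ (fun a : {a : Σ Z, Z ⟶ W //
    ∃ p, ap (c.ι.app j) a.1 p = res ((jP O).obj c.pt) a.2.op s} => a.1.2), fun x hx => ?_, ?_⟩⟩
  · obtain ⟨z, hzt, hxz⟩ : ∃ z ∈ t, x ∈ V z := by
      have := Set.eq_univ_iff_forall.1 ht x
      simpa using this
    have hzj : i z ≤ j := hj (i z) (Finset.mem_image_of_mem i hzt)
    let W' : Opens X := W ⊓ V z
    let g₁ : W' ⟶ W := homOfLE inf_le_left
    let g₂ : W' ⟶ V z := homOfLE inf_le_right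
    obtain ⟨Z, k, v, -, d, hd⟩ := loc_point (pt x) (he z g₂ (res ((jP O).obj c.pt) g₁.op s))
      (fib (show x ∈ W' from ⟨hx, hxz⟩))
    let p : Sec (D.obj j) Z := ap (D.map (homOfLE hzj)) Z
      (∑ a, d a • res ((jP O).obj (D.obj (i z))) (k ≫ g₂).op (y z a))
    refine ⟨Z, k ≫ g₁, Sieve.ofArrows_mk _ _ (⟨⟨Z, k ≫ g₁⟩, p, ?_⟩ : {a : Σ Z, Z ⟶ W //
      ∃ p, ap (c.ι.app j) a.1 p = res ((jP O).obj c.pt) a.2.op s}), mem_of_fib v⟩
    show ap (c.ι.app j) Z p = res ((jP O).obj c.pt) (k ≫ g₁).op s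
    rw [res_op_comp, hd]
    refine (ap_comp _ (c.ι.app j) Z _).symm.trans ?_
    rw [Cocone.w, ap_sum]
    exact Finset.sum_congr rfl fun a _ => (ap_smul _ _ _ _).trans (congrArg (d a • ·)
      ((app_res ((jP O).map (c.ι.app (i z))) (k ≫ g₂).op (y z a)).trans
        (congrArg (fun r => res ((jP O).obj c.pt) (k ≫ g₂).op r) (hy z a))))
  · rintro Z g hg
    obtain ⟨Z', a, _, ⟨w⟩, rfl⟩ := hg
    obtain ⟨q, hq⟩ := w.2
    exact ⟨res ((jP O).obj (D.obj j)) a.op q, (app_res ((jP O).map (c.ι.app j)) a.op q).trans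
      ((congrArg (fun r => res ((jP O).obj c.pt) a.op r) hq).trans (res_op_comp _ _ _).symm)⟩

theorem mono_ι (hc : IsColimit c) (hD : ∀ (i j : I) (f : i ⟶ j), Mono (D.map f)) (i : I) :
    Mono (c.ι.app i) := by
  haveI := hD
  haveI : HasColimitsOfShape (Under i) (ModSite.Mod O) := inferInstance
  haveI : IsFiltered (Under i) := inferInstance
  haveI : HasExactColimitsOfShape (Under i) (ModSite.Mod O) :=
    AB5OfSize.ofShape (C := SheafOfModules.{u} (ModSite.ringSh O)) (Under i)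
  exact hc.mono_ι_app_of_isFiltered i

end Groth.Agent.LocalGenLib
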