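import Groth.Agent.LocalGenLib.Point

/-!
# Freeness near a point with free stalk
-/

set_option autoImplicit false
set_option linter.style.haveILetI false
set_option backward.isDefEq.respectTransparency false
universe u

open CategoryTheory Limits Opposite Groth.Agent.ModSiteLib Groth.Agent.ModSiteLib.SetPull ModSiteLib
  Groth.Agent.ModSiteLib.FlatStalk

namespace Groth.Agent.LocalGenLib

variable {C : Type u} [SmallCategory C] {J : GrothendieckTopology C} {O : Sheaf J CommRingCat.{u}}

theorem nonempty_iso_free {F : ModSite.Mod O} {U : C} {ι : Type} [Fintype ι] {s : ι → Sec F U}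
    (hs : GenBy F U s) (hi : ∀ {V : C} (g : V ⟶ U) (f : ι → O.obj.obj (op V)),
      ∑ a, f a • res ((jP O).obj F) g.op (s a) = 0 → ∀ a, f a = 0) :
    Nonempty ((ModSite.restr O U).obj F ≅ SheafOfModules.free (ULift.{u} ι)) := by
  haveI := epi_toRestr hs
  haveI : Mono (toRestr F (L := ULift.{u} ι) fun a => s a.down) := by
    refine mono_of_injective_ap _ fun V => (injective_iff_map_eq_zero
      (((jP (O.over U)).map (toRestr F (L := ULift.{u} ι) fun a => s a.down)).app (op V)).hom.toAddMonoidHom).2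
      fun x hx => ?_
    refine sec_eq_zero_of_loc _ x ((loc_free (T := Over.mk (𝟙 U)) Over.mkIdTerminal x).mono
      fun V' g ⟨d, hd⟩ => hd.trans ?_)
    have h0 : ∑ i : ULift.{u} ι, d i • res ((jP O).obj F) V'.hom.op (s i.down) = 0 := by
      refine (sum_coeff_eq V' d (fun a : ULift.{u} ι => s a.down)).symm.trans ?_
      refine (congrArg (ap (toRestr F fun a : ULift.{u} ι => s a.down) V') hd.symm).trans ?_
      refine (app_res ((jP (O.over U)).map (toRestr F fun a : ULift.{u} ι => s a.down)) g.op x).trans ?_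
      exact (congrArg (fun t => res ((jP (O.over U)).obj _) g.op t) hx).trans
        (res_zero' (O := O.over U) g)
    have h1 := hi V'.hom (fun a => d ⟨a⟩)
      ((Equiv.ulift.{u}.sum_comp fun a => d ⟨a⟩ • res ((jP O).obj F) V'.hom.op (s a)).symm.trans h0)
    refine Finset.sum_eq_zero fun i _ => ?_
    rw [show d i = 0 from h1 i.down]
    exact zero_smul _ _
  haveI := isIso_of_mono_of_epi (toRestr F (L := ULift.{u} ι) fun a => s a.down)
  exact ⟨(asIso (toRestr F (L := ULift.{u} ι) fun a => s a.down)).symm⟩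

variable (p : GrothendieckTopology.Point.{u} J)

/-- A presented module with free stalk is free near the point. -/
theorem exists_free_near {F : ModSite.Mod O} {U : C} {ι κ : Type} [Fintype ι] [Fintype κ]
    {e : ι → Sec F U} {c : κ → ι → O.obj.obj (op U)} (h : PresBy F U e c) (v : p.fiber.obj U)
    {r : ℕ} (b : Module.Basis (Fin r) (ModSite.stalkRing p O) (ModSite.stalkAb p F)) :
    ∃ (V : C) (g : V ⟶ U) (w : p.fiber.obj V), p.fiber.map g w = v ∧
      Nonempty ((ModSite.restr O V).obj F ≅ SheafOfModules.free (ULift.{u} (Fin r))) := by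
  classical
  let E : ι → ModSite.stalkAb p F := fun a => ModSite.germ p F U v (e a)
  -- lift the basis and the coordinates of the generators
  obtain ⟨W, g₁, w₁, d, s, hg₁, hd, hs⟩ :=
    exists_lifts p F (fun q : ι × Fin r => b.repr (E q.1) q.2) b v
  obtain ⟨W₂, g₂, w₂, hg₂, hu⟩ := loc_point p
    (Loc.forall_finset (Finset.univ : Finset (Fin r)) fun i _ => h.gen g₁ (s i)) w₁
  choose u hu using fun i => hu i (Finset.mem_univ i)
  let k₂ := g₂ ≫ g₁
  have hk₂ : p.fiber.map k₂ w₂ = v :=
    (FunctorToTypes.map_comp_apply p.fiber g₂ g₁ w₂).trans ((congrArg (p.fiber.map g₁) hg₂).trans hg₁)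
  have hE : ∀ a, ModSite.germ p F W₂ w₂ (res ((jP O).obj F) k₂.op (e a)) = E a := fun a =>
    germ_res_of_eq p F hk₂ (e a)
  have hS : ∀ i, ModSite.germ p F W₂ w₂ (res ((jP O).obj F) g₂.op (s i)) = b i := fun i =>
    (germ_res_of_eq p F hg₂ (s i)).trans (hs i)
  have hD : ∀ a i, ModSite.germRing p W₂ w₂ (rC g₂ (d (a, i))) = b.repr (E a) i := fun a i =>
    (germRing_res_of_eq p hg₂ _).trans (hd (a, i))
  -- the identities that hold at the germ
  have hud : ∀ i j, ModSite.germRing p W₂ w₂ (∑ a, u i a * rC g₂ (d (a, j))) =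
      ModSite.germRing p W₂ w₂ (if i = j then 1 else 0) := by
    intro i j
    rw [germRing_sum]
    simp only [germRing_mul, hD]
    have h2 : b i = ∑ a, ModSite.germRing p W₂ w₂ (u i a) • E a := by
      rw [← hS i, hu i, germ_sum]
      exact Finset.sum_congr rfl fun a _ => congrArg _ (hE a)
    have h3 := congrArg (fun m => b.repr m j) h2
    simp only [map_sum, map_smul, Module.Basis.repr_self, Finsupp.coe_finset_sum, Finset.sum_apply,
      Finsupp.smul_apply, smul_eq_mul, Finsupp.single_apply] at h3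
    rw [← h3]
    split
    · exact (germRing_one p w₂).symm
    · exact (germRing_zero p w₂).symm
  have hcd : ∀ β j, ModSite.germRing p W₂ w₂ (∑ a, rC k₂ (c β a) * rC g₂ (d (a, j))) =
      ModSite.germRing p W₂ w₂ 0 := by
    intro β j
    rw [germRing_sum, germRing_zero]
    simp only [germRing_mul, hD]
    have h2 : ∑ a, ModSite.germRing p W₂ w₂ (rC k₂ (c β a)) • E a = 0 := by
      simp only [← hE]
      rw [← germ_sum]
      exact (congrArg _ ((h.res k₂).rel β)).trans (germ_zero p F w₂)
    have h3 := congrArg (fun m => b.repr m j) h2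
    simpa only [map_sum, map_smul, map_zero, Finsupp.coe_finset_sum, Finset.sum_apply,
      Finsupp.smul_apply, smul_eq_mul, Finsupp.coe_zero, Pi.zero_apply] using h3
  have hes : ∀ a, ModSite.germ p F W₂ w₂ (res ((jP O).obj F) k₂.op (e a)) =
      ModSite.germ p F W₂ w₂ (∑ i, rC g₂ (d (a, i)) • res ((jP O).obj F) g₂.op (s i)) := fun a => by
    rw [hE, germ_sum]
    simp only [hS, hD]
    exact (b.sum_repr (E a)).symm
  obtain ⟨V, g₃, w₃, hg₃, hR, hM⟩ := exists_eq p F w₂
    (Sum.elim (fun q : Fin r × Fin r => ∑ a, u q.1 a * rC g₂ (d (a, q.2)))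
      (fun q : κ × Fin r => ∑ a, rC k₂ (c q.1 a) * rC g₂ (d (a, q.2))))
    (Sum.elim (fun q : Fin r × Fin r => if q.1 = q.2 then 1 else 0) fun _ => 0)
    _ _ (by rintro (q | q); exacts [hud q.1 q.2, hcd q.1 q.2]) hes
  let k := g₃ ≫ k₂
  refine ⟨V, k, w₃, (FunctorToTypes.map_comp_apply p.fiber g₃ k₂ w₃).trans
    ((congrArg (p.fiber.map k₂) hg₃).trans hk₂), ?_⟩
  have hV := h.res k
  let s' : Fin r → Sec F V := fun i => res ((jP O).obj F) (g₃ ≫ g₂).op (s i)
  let U' : Fin r → ι → O.obj.obj (op V) := fun i a => rC g₃ (u i a)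
  let D' : ι → Fin r → O.obj.obj (op V) := fun a i => rC (g₃ ≫ g₂) (d (a, i))
  have hsU : ∀ i, s' i = ∑ a, U' i a • res ((jP O).obj F) k.op (e a) := fun i => by
    show res ((jP O).obj F) (g₃ ≫ g₂).op (s i) = _
    rw [res_op_comp, hu i, res_comb]
    exact Finset.sum_congr rfl fun a _ => by rw [← res_op_comp]
  have heD : ∀ a, res ((jP O).obj F) k.op (e a) = ∑ i, D' a i • s' i := fun a => by
    rw [res_op_comp, hM a, res_comb]
    exact Finset.sum_congr rfl fun i _ => by rw [← rC_comp, ← res_op_comp]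
  have hUD : ∀ i j, ∑ a, U' i a * D' a j = if i = j then 1 else 0 := fun i j => by
    have := hR (Sum.inl (i, j))
    simp only [Sum.elim_inl] at this
    rw [show rC g₃ (∑ a, u i a * rC g₂ (d (a, j))) = ∑ a, U' i a * D' a j from
      (map_sum _ _ _).trans (Finset.sum_congr rfl fun a _ => (map_mul _ _ _).trans
        (congrArg (U' i a * ·) (rC_comp g₂ g₃ (d (a, j))).symm))] at this
    rw [this]
    split
    · exact map_one _
    · exact map_zero _
  have hCD : ∀ β j, ∑ a, rC k (c β a) * D' a j = 0 := fun β j => by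
    have := hR (Sum.inr (β, j))
    simp only [Sum.elim_inr] at this
    rw [show rC g₃ (∑ a, rC k₂ (c β a) * rC g₂ (d (a, j))) = ∑ a, rC k (c β a) * D' a j from
      (map_sum _ _ _).trans (Finset.sum_congr rfl fun a _ => (map_mul _ _ _).trans
        (congrArg₂ (· * ·) (rC_comp k₂ g₃ (c β a)).symm (rC_comp g₂ g₃ (d (a, j))).symm))] at this
    exact this.trans (map_zero _)
  refine nonempty_iso_free (s := s') ?_ ?_
  · intro Z q x
    refine (hV.gen q x).mono fun Z' q' ⟨f, hf⟩ => ⟨fun i => ∑ a, f a * rC (q' ≫ q) (D' a i), ?_⟩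
    rw [hf]
    simp only [Finset.sum_smul, mul_smul]
    rw [Finset.sum_comm]
    refine Finset.sum_congr rfl fun a _ => ?_
    rw [heD a, res_comb, Finset.smul_sum]
  · intro Z q f hf j
    have hfU : ∑ a, (∑ i, f i * rC q (U' i a)) • res ((jP O).obj F) q.op
        (res ((jP O).obj F) k.op (e a)) = 0 := by
      refine Eq.trans ?_ hf
      simp only [Finset.sum_smul, mul_smul]
      rw [Finset.sum_comm]
      refine Finset.sum_congr rfl fun i _ => ?_
      rw [← Finset.smul_sum, hsU i, res_comb]
    obtain ⟨S, hS, hy⟩ := hV.ker q _ hfU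
    refine sec_eq_zero_of_loc (ModSite.unit O) (show Sec (ModSite.unit O) Z from f j)
      ⟨S, hS, fun Z' q' hq' => ?_⟩
    obtain ⟨y, hy⟩ := hy q' hq'
    show rC q' (f j) = 0
    have h4 : rC q' (f j) = ∑ a, rC q' (∑ i, f i * rC q (U' i a)) * rC (q' ≫ q) (D' a j) := by
      refine Eq.trans (congrArg (rC q') ?_) ((map_sum _ _ _).trans
        (Finset.sum_congr rfl fun a _ => (map_mul _ _ _).trans
          (congrArg (_ * ·) (rC_comp q q' (D' a j)).symm)))
      simp only [Finset.sum_mul, mul_assoc]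
      rw [Finset.sum_comm]
      have h5 : ∀ i, ∑ a, rC q (U' i a) * rC q (D' a j) = if i = j then 1 else 0 := fun i => by
        refine ((map_sum _ _ _).trans (Finset.sum_congr rfl fun a _ => map_mul _ _ _)).symm.trans
          ((congrArg (rC q) (hUD i j)).trans ?_)
        split
        · exact map_one _
        · exact map_zero _
      simp only [← Finset.mul_sum, h5, mul_ite, mul_one, mul_zero, Finset.sum_ite_eq',
        Finset.mem_univ, if_true]
    rw [h4]
    simp only [hy, Finset.sum_mul, mul_assoc]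
    rw [Finset.sum_comm]
    refine Finset.sum_eq_zero fun β _ => ?_
    rw [← Finset.mul_sum]
    refine (congrArg (y β * ·) ?_).trans (mul_zero _)
    refine Eq.trans ?_ ((congrArg (rC (q' ≫ q)) (hCD β j)).trans (map_zero _))
    exact ((map_sum _ _ _).trans (Finset.sum_congr rfl fun a _ => map_mul _ _ _)).symm

end Groth.Agent.LocalGenLib
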