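import Groth.Agent.LocalGenLib.Pres

/-!
# Permanence of finite type and finite presentation
-/

set_option autoImplicit false
set_option linter.style.haveILetI false
set_option backward.isDefEq.respectTransparency false
universe u

open CategoryTheory Limits Opposite Groth.Agent.ModSiteLib Groth.Agent.ModSiteLib.SetPull ModSiteLib

namespace Groth.Agent.LocalGenLib

variable {C : Type u} [SmallCategory C] {J : GrothendieckTopology C} {O : Sheaf J CommRingCat.{u}}

theorem LocallyEverywhere.and {P Q : C → Prop} (hP : LocallyEverywhere J P)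
    (hQ : LocallyEverywhere J Q) (rP : ∀ {U V : C}, (V ⟶ U) → P U → P V) :
    LocallyEverywhere J fun V => P V ∧ Q V := fun Y =>
  (hP Y).bind fun V _ hV => (hQ V).mono fun _ g' hV' => ⟨rP g' hV, hV'⟩

theorem LocallyEverywhere.bind {P Q : C → Prop} (hP : LocallyEverywhere J P)
    (hPQ : ∀ U, P U → Loc J U fun V (_ : V ⟶ U) => Q V) : LocallyEverywhere J Q := fun Y =>
  (hP Y).bind fun V _ hV => hPQ V hV

/-- Lifts of finitely many sections along an epimorphism exist locally. -/
theorem loc_lifts {M N : ModSite.Mod O} (φ : M ⟶ N) [Epi φ] {ι : Type} [Fintype ι] {U : C}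
    (t : ι → Sec N U) :
    Loc J U fun V g => ∃ p : ι → Sec M V, ∀ a, ap φ V (p a) = res ((jP O).obj N) g.op (t a) :=
  (Loc.forall_finset Finset.univ fun a _ => loc_of_epi φ (t a)).mono fun _ _ h =>
    ⟨fun a => (h a (Finset.mem_univ a)).choose, fun a => (h a (Finset.mem_univ a)).choose_spec⟩

/-- If generators lift then the restricted map is an epimorphism. -/
theorem epi_restr_of_lifts {G F : ModSite.Mod O} (φ : G ⟶ F) {U : C} {ι : Type} [Fintype ι]
    {e : ι → Sec F U} (he : GenBy F U e) (s : ι → Sec G U) (hs : ∀ a, ap φ U (s a) = e a) :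
    Epi ((ModSite.restr O U).map φ) := by
  refine epi_of_loc_surjective _ fun V x => ?_
  obtain ⟨S, hS, hp⟩ := he V.hom x
  refine ⟨(Sieve.overEquiv V).symm S, J.overEquiv_symm_mem_over V S hS, fun V' g' hg' => ?_⟩
  rw [Sieve.overEquiv_symm_iff] at hg'
  obtain ⟨d, hd⟩ := hp _ hg'
  refine ⟨(show Sec G V'.left from
    ∑ a, d a • res ((jP O).obj G) (g'.left ≫ V.hom).op (s a)), ?_⟩
  show ap φ V'.left (∑ a, d a • res ((jP O).obj G) (g'.left ≫ V.hom).op (s a)) =
    res ((jP O).obj F) g'.left.op x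
  rw [ap_sum, hd]
  refine Finset.sum_congr rfl fun a _ => (ap_smul _ _ _ _).trans (congrArg (d a • ·) ?_)
  exact (app_res ((jP O).map φ) (g'.left ≫ V.hom).op (s a)).trans
    (congrArg (fun t => res ((jP O).obj F) (g'.left ≫ V.hom).op t) (hs a))

theorem exists_preimage_of_isKernel {S : ShortComplex (ModSite.Mod O)} (hS : S.ShortExact) (V : C)
    (p : Sec S.X₂ V) (hp : ap S.g V p = 0) : ∃ r, ap S.f V r = p := by
  obtain ⟨r, hr⟩ := exists_kernel_section S.g V p hp
  let e : kernel S.g ⟶ S.X₁ :=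
    hS.fIsKernel.lift (KernelFork.ofι (kernel.ι S.g) (kernel.condition S.g))
  have he : e ≫ S.f = kernel.ι S.g :=
    hS.fIsKernel.fac (KernelFork.ofι _ (kernel.condition S.g)) WalkingParallelPair.zero
  refine ⟨ap e V r, (ap_comp e S.f V r).symm.trans ?_⟩
  rw [he]
  exact hr

theorem isFiniteType_of_shortExact {S : ShortComplex (ModSite.Mod O)} (hS : S.ShortExact)
    [SheafOfModules.IsFiniteType.{u} S.X₁] [SheafOfModules.IsFiniteType.{u} S.X₃] :
    SheafOfModules.IsFiniteType.{u} S.X₂ := by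
  haveI := hS.epi_g
  refine isFiniteType_of_locally _
    ((((locally_hasGen S.X₁).and (locally_hasGen S.X₃) fun g h => h.res g)).bind ?_)
  rintro U ⟨⟨n₁, e₁, h₁⟩, n₃, e₃, h₃⟩
  refine (loc_lifts S.g e₃).mono fun V g ⟨p, hp⟩ => ?_
  have h₁' : GenBy S.X₁ V _ := h₁.res g
  have h₃' : GenBy S.X₃ V _ := h₃.res g
  refine GenBy.hasGen (e := Sum.elim (fun a => ap S.f V (res ((jP O).obj S.X₁) g.op (e₁ a))) p) ?_
  intro W k x
  refine (h₃' k (ap S.g W x)).bind fun W' k' ⟨d, hd⟩ => ?_
  let x' := res ((jP O).obj S.X₂) k'.op x - ∑ a, d a • res ((jP O).obj S.X₂) (k' ≫ k).op (p a)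
  have hx' : ap S.g W' x' = 0 := by
    refine (map_sub (((jP O).map S.g).app (op W')).hom _ _).trans (sub_eq_zero.2 ?_)
    refine (app_res ((jP O).map S.g) k'.op x).trans (hd.trans ?_)
    refine ((ap_sum S.g W' _ _).trans (Finset.sum_congr rfl fun a _ => ?_)).symm
    refine (ap_smul _ _ _ _).trans (congrArg (d a • ·) ?_)
    exact (app_res ((jP O).map S.g) (k' ≫ k).op (p a)).trans
      (congrArg (fun t => res ((jP O).obj S.X₃) (k' ≫ k).op t) (hp a))
  obtain ⟨y, hy⟩ := exists_preimage_of_isKernel hS W' x' hx'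
  refine (h₁' (k' ≫ k) y).mono fun W'' k'' ⟨d', hd'⟩ => ⟨Sum.elim d' fun a => rC k'' (d a), ?_⟩
  rw [Fintype.sum_sum_type]
  simp only [Sum.elim_inl, Sum.elim_inr]
  have e1 : res ((jP O).obj S.X₂) k'.op x =
      ap S.f W' y + ∑ a, d a • res ((jP O).obj S.X₂) (k' ≫ k).op (p a) :=
    sub_eq_iff_eq_add.1 hy.symm
  rw [res_op_comp, e1, res_add]
  refine congrArg₂ (· + ·) ?_ ?_
  · refine (app_res ((jP O).map S.f) k''.op y).symm.trans ?_
    refine (congrArg (ap S.f W'') hd').trans ?_
    rw [ap_sum]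
    refine Finset.sum_congr rfl fun a _ => (ap_smul _ _ _ _).trans (congrArg (d' a • ·) ?_)
    rw [Category.assoc]
    exact app_res ((jP O).map S.f) _ _
  · rw [res_comb]
    refine Finset.sum_congr rfl fun a _ => congrArg (rC k'' (d a) • ·) ?_
    rw [← res_op_comp, Category.assoc]

theorem isFinitePresentation_cokernel {G F : ModSite.Mod O} (φ : G ⟶ F)
    [SheafOfModules.IsFiniteType.{u} G] [SheafOfModules.IsFinitePresentation.{u} F] :
    SheafOfModules.IsFinitePresentation.{u} (cokernel φ) := by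
  refine isFinitePresentation_of_locally _
    (((locally_hasGen G).and (locally_hasPres F) fun g h => h.res g).bind ?_)
  rintro U ⟨⟨k, t, ht⟩, n, m, e, c, he⟩
  -- the images of the generators of `G` are locally combinations of `e`
  refine (Loc.forall_finset Finset.univ fun j _ => he.gen (𝟙 U) (ap φ U (t j))).mono fun V g h => ?_
  choose d hd using fun j => h j (Finset.mem_univ j)
  have he' := he.res g
  have ht' : GenBy G V _ := ht.res g
  let π := cokernel.π φ
  refine PresBy.hasPres (e := fun a => ap π V (res ((jP O).obj F) g.op (e a)))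
    (c := Sum.elim (fun b a => rC g (c b a)) d) ⟨?_, ?_, ?_⟩
  · intro W q x
    refine (loc_of_epi π x).bind fun W' q' ⟨y, hy⟩ => (he'.gen (q' ≫ q) y).mono
      fun W'' q'' ⟨d', hd'⟩ => ⟨d', ?_⟩
    rw [res_op_comp, ← hy]
    refine (app_res ((jP O).map π) q''.op y).symm.trans ((congrArg (ap π W'') hd').trans ?_)
    rw [ap_sum]
    refine Finset.sum_congr rfl fun a _ => (ap_smul _ _ _ _).trans (congrArg (d' a • ·) ?_)
    rw [Category.assoc]
    exact app_res ((jP O).map π) _ _
  · rintro (b | j)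
    · refine (Finset.sum_congr rfl fun a _ => (ap_smul π V _ _).symm).trans ((ap_sum π V _ _).symm.trans ?_)
      exact (congrArg (ap π V) (he'.rel b)).trans (ap_zero π V)
    · refine (Finset.sum_congr rfl fun a _ => (ap_smul π V _ _).symm).trans ((ap_sum π V _ _).symm.trans ?_)
      have e1 : ∑ a, d j a • res ((jP O).obj F) g.op (e a) =
          res ((jP O).obj F) g.op (ap φ U (t j)) :=
        ((hd j).trans (Finset.sum_congr rfl fun a _ => by rw [Category.comp_id])).symm
      refine (congrArg (ap π V) (e1.trans (app_res ((jP O).map φ) g.op (t j)).symm)).trans ?_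
      refine (ap_comp φ π V _).symm.trans ?_
      rw [cokernel.condition]
      rfl
  · intro W q d₀ hd₀
    -- the combination lies in the image of `φ` locally
    let z : Sec F W := ∑ a, d₀ a • res ((jP O).obj F) q.op (res ((jP O).obj F) g.op (e a))
    have hz : ap π W z = 0 := by
      refine (ap_sum π W _ _).trans (Eq.trans (Finset.sum_congr rfl fun a _ => ?_) hd₀)
      exact (ap_smul π W _ _).trans (congrArg (d₀ a • ·) (app_res ((jP O).map π) _ _))
    let S : ShortComplex (ModSite.Mod O) := ShortComplex.mk (Abelian.image.ι φ) π (kernel.condition π)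
    obtain ⟨r, hr⟩ := exists_kernel_section π W z hz
    refine (loc_of_epi (Abelian.factorThruImage φ) r).bind fun W' q' ⟨y, hy⟩ =>
      (ht' (q' ≫ q) y).bind fun W'' q'' ⟨f, hf⟩ => ?_
    -- now `z` is a combination of the `d j`
    let w : Fin n → O.obj.obj (op W'') := fun a =>
      rC (q'' ≫ q') (d₀ a) - ∑ j, f j * rC (q'' ≫ q' ≫ q) (d j a)
    have hw : ∑ a, w a • res ((jP O).obj F) ((q'' ≫ q' ≫ q) ≫ 𝟙 V).op
        (res ((jP O).obj F) g.op (e a)) = 0 := by
      simp only [w, sub_smul, Finset.sum_sub_distrib, Category.comp_id, Finset.sum_smul, mul_smul]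
      rw [sub_eq_zero, Finset.sum_comm]
      have e2 : res ((jP O).obj F) (q'' ≫ q').op z =
          ∑ a, rC (q'' ≫ q') (d₀ a) • res ((jP O).obj F) (q'' ≫ q' ≫ q).op
            (res ((jP O).obj F) g.op (e a)) := by
        refine (res_comb (q'' ≫ q') d₀ _).trans (Finset.sum_congr rfl fun a _ => ?_)
        rw [← res_op_comp, Category.assoc]
      rw [← e2]
      have e3 : res ((jP O).obj F) q'.op z = ap φ W' y := by
        have h3 : ap (Abelian.image.ι φ) W' (ap (Abelian.factorThruImage φ) W' y) =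
            res ((jP O).obj F) q'.op z := by
          rw [hy, ← hr]
          exact app_res ((jP O).map (kernel.ι π)) q'.op r
        refine h3.symm.trans ((ap_comp (Abelian.factorThruImage φ) (Abelian.image.ι φ) W' y).symm.trans ?_)
        rw [Abelian.image.fac]
      rw [res_op_comp, e3]
      refine (app_res ((jP O).map φ) q''.op y).symm.trans ((congrArg (ap φ W'') hf).trans ?_)
      rw [ap_sum]
      refine Finset.sum_congr rfl fun j _ => (ap_smul _ _ _ _).trans ?_
      rw [← Finset.smul_sum]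
      refine congrArg (f j • ·) ?_
      refine (app_res ((jP O).map φ) _ _).trans ?_
      show res ((jP O).obj F) _ (ap φ V (res ((jP O).obj G) g.op (t j))) = _
      have e4 : ap φ V (res ((jP O).obj G) g.op (t j)) =
          ∑ a, d j a • res ((jP O).obj F) g.op (e a) :=
        (app_res ((jP O).map φ) g.op (t j)).trans
          ((hd j).trans (Finset.sum_congr rfl fun a _ => by rw [Category.comp_id]))
      rw [e4, res_comb]
    refine (he'.ker ((q'' ≫ q' ≫ q) ≫ 𝟙 V) w hw).mono fun W₃ q₃ ⟨y', hy'⟩ =>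
      ⟨Sum.elim y' fun j => rC q₃ (f j), fun a => ?_⟩
    rw [Fintype.sum_sum_type]
    simp only [Sum.elim_inl, Sum.elim_inr]
    have h4 := hy' a
    simp only [w, Category.comp_id] at h4
    rw [show rC q₃ (rC (q'' ≫ q') (d₀ a) - ∑ j, f j * rC (q'' ≫ q' ≫ q) (d j a)) =
        rC ((q₃ ≫ q'') ≫ q') (d₀ a) -
          ∑ j, rC q₃ (f j) * rC (((q₃ ≫ q'') ≫ q') ≫ q) (d j a) by
      rw [show rC q₃ (rC (q'' ≫ q') (d₀ a) - ∑ j, f j * rC (q'' ≫ q' ≫ q) (d j a)) =
          rC q₃ (rC (q'' ≫ q') (d₀ a)) - rC q₃ (∑ j, f j * rC (q'' ≫ q' ≫ q) (d j a)) from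
        map_sub _ _ _]
      rw [← rC_comp, Category.assoc]
      refine congrArg₂ (· - ·) rfl ((map_sum _ _ _).trans (Finset.sum_congr rfl fun j _ => ?_))
      refine (map_mul _ _ _).trans (congrArg (rC q₃ (f j) * ·) ?_)
      show rC q₃ (rC (q'' ≫ q' ≫ q) (d j a)) = _
      rw [← rC_comp]
      simp [Category.assoc]] at h4
    rw [sub_eq_iff_eq_add] at h4
    refine h4.trans (congrArg₂ (· + ·) (Finset.sum_congr rfl fun b _ => ?_) rfl)
    simp [Category.assoc]

theorem isFiniteType_kernel {G F : ModSite.Mod O} (θ : G ⟶ F) [Epi θ]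
    [SheafOfModules.IsFiniteType.{u} G] [SheafOfModules.IsFinitePresentation.{u} F] :
    SheafOfModules.IsFiniteType.{u} (kernel θ) := by
  refine isFiniteType_of_locally _
    (((locally_hasGen G).and (locally_hasPres F) fun g h => h.res g).bind ?_)
  rintro U ⟨⟨k, t, ht⟩, n, m, e, c, he⟩
  refine ((loc_lifts θ e).and
    (Loc.forall_finset Finset.univ fun j _ => he.gen (𝟙 U) (ap θ U (t j)))).mono
      fun V g ⟨⟨p, hp⟩, h⟩ => ?_
  choose d hd using fun j => h j (Finset.mem_univ j)
  have ht' : GenBy G V _ := ht.res g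
  have he' := he.res g
  let t' : Fin k → Sec G V := fun j => res ((jP O).obj G) g.op (t j)
  let v : Fin m ⊕ Fin k → Sec G V :=
    Sum.elim (fun b => ∑ a, rC g (c b a) • p a) (fun j => t' j - ∑ a, d j a • p a)
  have hv : ∀ i, ap θ V (v i) = 0 := by
    rintro (b | j)
    · refine (ap_sum θ V _ _).trans (Eq.trans (Finset.sum_congr rfl fun a _ => ?_) (he'.rel b))
      exact (ap_smul θ V _ _).trans (congrArg (rC g (c b a) • ·) (hp a))
    · refine (map_sub (((jP O).map θ).app (op V)).hom _ _).trans (sub_eq_zero.2 ?_)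
      refine (app_res ((jP O).map θ) g.op (t j)).trans ((hd j).trans ?_)
      refine ((ap_sum θ V _ _).trans (Finset.sum_congr rfl fun a _ => ?_)).symm
      rw [Category.comp_id]
      exact (ap_smul θ V _ _).trans (congrArg (d j a • ·) (hp a))
  choose r hr using fun i => exists_kernel_section θ V (v i) (hv i)
  refine GenBy.hasGen (e := r) ?_
  intro W q x
  refine (ht' q (ap (kernel.ι θ) W x)).bind fun W' q' ⟨f, hf⟩ => ?_
  let dd : Fin n → O.obj.obj (op W') := fun a => ∑ j, f j * rC (q' ≫ q) (d j a)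
  have hdd : ∑ a, dd a • res ((jP O).obj F) (q' ≫ q).op (res ((jP O).obj F) g.op (e a)) = 0 := by
    have h0 : ap θ W' (res ((jP O).obj G) q'.op (ap (kernel.ι θ) W x)) = 0 := by
      refine (app_res ((jP O).map θ) q'.op _).trans ?_
      refine (congrArg (fun t => res ((jP O).obj F) q'.op t)
        ((ap_comp (kernel.ι θ) θ W x).symm.trans (by rw [kernel.condition]; rfl))).trans (res_zero' q')
    refine Eq.trans ?_ ((congrArg (ap θ W') hf).symm.trans h0)
    rw [ap_sum]
    simp only [dd, Finset.sum_smul, mul_smul]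
    rw [Finset.sum_comm]
    refine Finset.sum_congr rfl fun j _ => ?_
    rw [← Finset.smul_sum]
    refine Eq.trans ?_ (ap_smul _ _ _ _).symm
    refine congrArg (f j • ·) ?_
    refine Eq.trans ?_ (app_res ((jP O).map θ) _ _).symm
    show _ = res ((jP O).obj F) (q' ≫ q).op (ap θ V (t' j))
    have e4 : ap θ V (t' j) = ∑ a, d j a • res ((jP O).obj F) g.op (e a) :=
      (app_res ((jP O).map θ) g.op (t j)).trans
        ((hd j).trans (Finset.sum_congr rfl fun a _ => by rw [Category.comp_id]))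
    rw [e4, res_comb]
  refine (he'.ker (q' ≫ q) dd hdd).mono fun W'' q'' ⟨y, hy⟩ =>
    ⟨Sum.elim y (fun j => rC q'' (f j)), ?_⟩
  apply injective_ap_of_mono (kernel.ι θ) W''
  refine (app_res ((jP O).map (kernel.ι θ)) (q'' ≫ q').op x).trans ?_
  rw [ap_sum]
  show res ((jP O).obj G) (q'' ≫ q').op (ap (kernel.ι θ) W x) = _
  rw [res_op_comp, hf, res_comb, Fintype.sum_sum_type]
  simp only [Sum.elim_inl, Sum.elim_inr]
  have key : ∀ i (s : O.obj.obj (op W'')),
      ap (kernel.ι θ) W'' (s • res ((jP O).obj (kernel θ)) ((q'' ≫ q') ≫ q).op (r i)) =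
        s • res ((jP O).obj G) ((q'' ≫ q') ≫ q).op (v i) := fun i s =>
    (ap_smul _ _ _ _).trans (congrArg (s • ·) ((app_res ((jP O).map (kernel.ι θ)) _ _).trans
      (congrArg (fun t => res ((jP O).obj G) ((q'' ≫ q') ≫ q).op t) (hr i))))
  simp only [key, v, Sum.elim_inl, Sum.elim_inr]
  have hA : ∑ b, y b • res ((jP O).obj G) ((q'' ≫ q') ≫ q).op (∑ a, rC g (c b a) • p a) =
      ∑ a, rC q'' (dd a) • res ((jP O).obj G) ((q'' ≫ q') ≫ q).op (p a) := by
    simp only [res_comb, Finset.smul_sum, ← mul_smul]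
    rw [Finset.sum_comm]
    refine Finset.sum_congr rfl fun a _ => ?_
    rw [hy a, Finset.sum_smul]
    simp only [Category.assoc]
  have hB : ∀ j, res ((jP O).obj G) ((q'' ≫ q') ≫ q).op (t' j - ∑ a, d j a • p a) =
      res ((jP O).obj G) ((q'' ≫ q') ≫ q).op (t' j) -
        ∑ a, rC ((q'' ≫ q') ≫ q) (d j a) • res ((jP O).obj G) ((q'' ≫ q') ≫ q).op (p a) := fun j =>
    (map_sub (((jP O).obj G).map _).hom _ _).trans (congrArg₂ (· - ·) rfl (res_comb _ _ _))
  rw [hA]
  simp only [hB, smul_sub, Finset.sum_sub_distrib, Finset.smul_sum, ← mul_smul]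
  conv_rhs => arg 2; arg 2; rw [Finset.sum_comm]
  simp only [← Finset.sum_smul]
  have hC : ∀ a, ∑ j, rC q'' (f j) * rC ((q'' ≫ q') ≫ q) (d j a) = rC q'' (dd a) := fun a => by
    refine Eq.symm ((map_sum _ _ _).trans (Finset.sum_congr rfl fun j _ => ?_))
    refine (map_mul _ _ _).trans (congrArg (rC q'' (f j) * ·) ?_)
    show rC q'' (rC (q' ≫ q) (d j a)) = _
    rw [← rC_comp, Category.assoc]
  simp only [hC]
  rw [add_sub_cancel]
  refine Finset.sum_congr rfl fun j _ => congrArg (rC q'' (f j) • ·) ?_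
  rw [← res_op_comp, Category.assoc]

end Groth.Agent.LocalGenLib
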