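import Groth.Agent.LocalGenLib.Ops
import Groth.Agent.ModSiteLib.FlatStalk

/-!
# Generators, bases and germs at a point
-/

set_option autoImplicit false
set_option linter.style.haveILetI false
set_option backward.isDefEq.respectTransparency false
universe u

open CategoryTheory Limits Opposite Groth.Agent.ModSiteLib Groth.Agent.ModSiteLib.SetPull ModSiteLib
  Groth.Agent.ModSiteLib.FlatStalk

namespace Groth.Agent.LocalGenLib

variable {C : Type u} [SmallCategory C] {J : GrothendieckTopology C} {O : Sheaf J CommRingCat.{u}}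
  (p : GrothendieckTopology.Point.{u} J)

/-- A property holding locally holds around every point. -/
theorem loc_point {U : C} {q : ∀ ⦃V : C⦄, (V ⟶ U) → Prop} (h : Loc J U q) (v : p.fiber.obj U) :
    ∃ (V : C) (g : V ⟶ U) (w : p.fiber.obj V), p.fiber.map g w = v ∧ q g := by
  obtain ⟨S, hS, hq⟩ := h
  obtain ⟨V, g, hg, w, hw⟩ := p.jointly_surjective S hS v
  exact ⟨V, g, w, hw, hq g hg⟩

lemma germ_res_of_eq (F : ModSite.Mod O) {U V : C} {g : V ⟶ U} {v : p.fiber.obj U} {w : p.fiber.obj V}
    (h : p.fiber.map g w = v) (s : Sec F U) :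
    ModSite.germ p F V w (res ((jP O).obj F) g.op s) = ModSite.germ p F U v s := by
  rw [germ_res, h]

lemma germRing_res_of_eq {U V : C} {g : V ⟶ U} {v : p.fiber.obj U} {w : p.fiber.obj V}
    (h : p.fiber.map g w = v) (r : O.obj.obj (op U)) :
    ModSite.germRing p V w (rC g r) = ModSite.germRing p U v r := by
  rw [germRing_res, h]

lemma germRing_zero {W : C} (w : p.fiber.obj W) :
    ModSite.germRing p W w (0 : O.obj.obj (op W)) = 0 := map_zero (p.toPresheafFiber W w O.obj).hom

lemma germRing_one {W : C} (w : p.fiber.obj W) :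
    ModSite.germRing p W w (1 : O.obj.obj (op W)) = 1 := map_one (p.toPresheafFiber W w O.obj).hom

lemma germRing_sum {W : C} (w : p.fiber.obj W) {ι : Type*} (s : Finset ι)
    (a : ι → O.obj.obj (op W)) :
    ModSite.germRing p W w (∑ i ∈ s, a i) = ∑ i ∈ s, ModSite.germRing p W w (a i) :=
  map_sum (p.toPresheafFiber W w O.obj).hom _ _

lemma germRing_mul {W : C} (w : p.fiber.obj W) (a b : O.obj.obj (op W)) :
    ModSite.germRing p W w (a * b) = ModSite.germRing p W w a * ModSite.germRing p W w b :=
  map_mul (p.toPresheafFiber W w O.obj).hom _ _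

lemma germ_map {F G : ModSite.Mod O} (φ : F ⟶ G) {W : C} (w : p.fiber.obj W) (s : Sec F W) :
    (ModSite.stalkMap p φ).hom (ModSite.germ p F W w s) = ModSite.germ p G W w (ap φ W s) :=
  p.toPresheafFiber_naturality_apply ((SheafOfModules.toSheaf (ModSite.ringSh O)).map φ).hom W w s

theorem exists_germ_over (F : ModSite.Mod O) {U : C} (v : p.fiber.obj U) (m : ModSite.stalkAb p F) :
    ∃ (W : C) (g : W ⟶ U) (w : p.fiber.obj W) (s : Sec F W),
      p.fiber.map g w = v ∧ ModSite.germ p F W w s = m := by
  obtain ⟨W, g, w, -, s, hg, -, hs⟩ :=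
    exists_lifts p F (ι := Empty) (κ := Unit) Empty.elim (fun _ => m) v
  exact ⟨W, g, w, s (), hg, hs ()⟩

theorem GenBy.span_germs {F : ModSite.Mod O} {U : C} {ι : Type} [Fintype ι] {e : ι → Sec F U}
    (he : GenBy F U e) (v : p.fiber.obj U) :
    Submodule.span (ModSite.stalkRing p O) (Set.range fun a => ModSite.germ p F U v (e a)) = ⊤ := by
  refine Submodule.eq_top_iff'.2 fun m => ?_
  obtain ⟨W, g, w, s, hg, rfl⟩ := exists_germ_over p F v m
  obtain ⟨V, k, z, hz, d, hd⟩ := loc_point p (he g s) w
  rw [← germ_res_of_eq p F hz s, hd, germ_sum]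
  refine Submodule.sum_mem _ fun a _ => Submodule.smul_mem _ _ (Submodule.subset_span ⟨a, ?_⟩)
  exact (germ_res_of_eq p F (by rw [FunctorToTypes.map_comp_apply, hz, hg]) (e a)).symm

theorem surjective_stalkMap {F G : ModSite.Mod O} (φ : F ⟶ G) [Epi φ] :
    Function.Surjective (ModSite.stalkMap p φ).hom := fun m => by
  obtain ⟨W, w, s, rfl⟩ := p.toPresheafFiber_jointly_surjective (P := (ModSite.toAb G).obj) m
  obtain ⟨V, g, z, hz, y, hy⟩ := loc_point p (loc_of_epi φ s) w
  refine ⟨ModSite.germ p F V z y, (germ_map p φ z y).trans ?_⟩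
  rw [hy]
  exact germ_res_of_eq p G hz s

/-- An isomorphism with a free module on `C/U` gives a basis of the stalk. -/
theorem exists_basis_of_iso {F : ModSite.Mod O} {U : C} {L : Type u}
    (φ : SheafOfModules.free (R := ModSite.ringSh (O.over U)) L ≅ (ModSite.restr O U).obj F)
    (v : p.fiber.obj U) :
    ∃ b : Module.Basis L (ModSite.stalkRing p O) (ModSite.stalkAb p F), ∀ i,
      b i = ModSite.germ p F U v (ap φ.hom (Over.mk (𝟙 U)) (freeSec (O.over U) (Over.mk (𝟙 U)) L i)) := by
  classical
  let T : Over U := Over.mk (𝟙 U)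
  let hT : IsTerminal T := Over.mkIdTerminal
  let FL := SheafOfModules.free (R := ModSite.ringSh (O.over U)) L
  let s : L → Sec F U := fun i => ap φ.hom T (freeSec (O.over U) T L i)
  have hs : ∀ (V : Over U) (i : L), ap φ.hom V (res ((jP (O.over U)).obj FL) (hT.from V).op
      (freeSec (O.over U) T L i)) = res ((jP O).obj F) V.hom.op (s i) := fun V i => by
    refine (app_res ((jP (O.over U)).map φ.hom) (hT.from V).op _).trans ?_
    exact congrArg (fun k : V.left ⟶ U => res ((jP O).obj F) k.op (s i)) (terminal_from_left V)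
  have hspan : ⊤ ≤ Submodule.span (ModSite.stalkRing p O)
      (Set.range fun i => ModSite.germ p F U v (s i)) := by
    intro m _
    obtain ⟨W, g, w, x, hg, rfl⟩ := exists_germ_over p F v m
    let y : Sec FL (Over.mk g) := ap φ.inv (Over.mk g) x
    have hy : ap φ.hom (Over.mk g) y = x := by
      refine (ap_comp φ.inv φ.hom (Over.mk g) x).symm.trans ?_
      rw [Iso.inv_hom_id]
      rfl
    obtain ⟨S, hS, hp⟩ := loc_hatA (isGenA_freeSec (O := O.over U) hT L) y
    obtain ⟨W', k, hk, z, hz⟩ := p.jointly_surjective (Sieve.overEquiv (Over.mk g) S) hS w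
    rw [Sieve.overEquiv_iff] at hk
    obtain ⟨d, hd⟩ := hp _ hk
    let k' : Over.mk (k ≫ (Over.mk g).hom) ⟶ Over.mk g := Over.homMk k
    have hx : res ((jP O).obj F) k.op x =
        ∑ q ∈ d.support, d q • res ((jP O).obj F) (k ≫ g).op (s q.1) := by
      refine (congrArg (res ((jP O).obj F) k.op) hy.symm).trans ?_
      refine (app_res ((jP (O.over U)).map φ.hom) k'.op y).symm.trans ?_
      refine (congrArg (ap φ.hom _) hd).trans ?_
      rw [ap_sum]
      refine Finset.sum_congr rfl fun q _ => (ap_smul _ _ _ _).trans (congrArg (d q • ·) ?_)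
      rw [show q.2 = hT.from _ from hT.hom_ext _ _]
      exact hs _ _
    have hm : ModSite.germ p F W w x = ∑ q ∈ d.support, ModSite.germRing p W' z (d q) •
        ModSite.germ p F W' z (res ((jP O).obj F) (k ≫ g).op (s q.1)) :=
      (germ_res_of_eq p F hz x).symm.trans ((congrArg (ModSite.germ p F W' z) hx).trans
        (germ_sum p F z _ _ _))
    rw [hm]
    refine Submodule.sum_mem _ fun q _ => Submodule.smul_mem _ _ (Submodule.subset_span ⟨q.1, ?_⟩)
    exact (germ_res_of_eq p F ((FunctorToTypes.map_comp_apply p.fiber k g z).trans ((congrArg (p.fiber.map g) hz).trans hg)) (s q.1)).symm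
  have hli : LinearIndependent (ModSite.stalkRing p O) fun i => ModSite.germ p F U v (s i) := by
    rw [linearIndependent_iff']
    intro t c hc i hi
    obtain ⟨W, g, w, f, -, hg, hf, -⟩ :=
      exists_lifts p F (ι := t) (κ := Empty) (fun j => c j.1) Empty.elim v
    have h0 : ModSite.germ p F W w (∑ j : t, f j • res ((jP O).obj F) g.op (s j.1)) =
        ModSite.germ p F W w 0 := by
      rw [germ_sum, germ_zero]
      refine Eq.trans ?_ hc
      rw [← Finset.sum_attach t fun j => c j • ModSite.germ p F U v (s j)]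
      exact Finset.sum_congr rfl fun j _ => by rw [hf, germ_res_of_eq p F hg]
    obtain ⟨V, k, z, hz, -, hk⟩ := exists_eq p F (ι := Empty) (κ := Unit) w Empty.elim Empty.elim
      (fun _ => ∑ j : t, f j • res ((jP O).obj F) g.op (s j.1)) (fun _ => 0) (fun i => i.elim)
      (fun _ => h0)
    have hk0 : ∑ j : t, rC k (f j) • res ((jP O).obj F) (k ≫ g).op (s j.1) = 0 := by
      refine Eq.trans ?_ ((hk ()).trans (res_zero' k))
      rw [res_comb]
      exact Finset.sum_congr rfl fun j _ => by rw [res_op_comp]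
    let y : Sec FL (Over.mk (k ≫ g)) := ∑ j : t, rC k (f j) •
      res ((jP (O.over U)).obj FL) (hT.from (Over.mk (k ≫ g))).op (freeSec (O.over U) T L j.1)
    have hy : ap φ.hom (Over.mk (k ≫ g)) y = 0 := by
      refine (ap_sum φ.hom _ _ _).trans (Eq.trans (Finset.sum_congr rfl fun j _ => ?_) hk0)
      exact (ap_smul φ.hom _ _ _).trans (congrArg (rC k (f j) • ·) (hs _ _))
    have hy0 : y = 0 := by
      have h1 := congrArg (ap φ.inv (Over.mk (k ≫ g))) hy
      rw [ap_zero] at h1
      refine Eq.trans ?_ h1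
      refine Eq.trans ?_ (ap_comp φ.hom φ.inv _ y)
      rw [Iso.hom_inv_id]
      rfl
    let pr : FL ⟶ ModSite.unit (O.over U) :=
      freeLift hT fun j => (show O.obj.obj (op U) from if j = i then 1 else 0)
    have hpr : ∀ j, ap pr (Over.mk (k ≫ g)) (res ((jP (O.over U)).obj FL)
        (hT.from (Over.mk (k ≫ g))).op (freeSec (O.over U) T L j)) =
        rC (hT.from (Over.mk (k ≫ g))).left (if j = i then 1 else 0) := fun j => by
      refine (app_res ((jP (O.over U)).map pr) _ _).trans ?_
      exact congrArg (fun r => res ((jP (O.over U)).obj (ModSite.unit (O.over U)))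
        (hT.from (Over.mk (k ≫ g))).op r) (ap_freeLift hT _ j)
    have h1 : rC k (f ⟨i, hi⟩) = (0 : O.obj.obj (op V)) := by
      have h2 := congrArg (ap pr (Over.mk (k ≫ g))) hy0
      rw [ap_sum, ap_zero, Finset.sum_eq_single (⟨i, hi⟩ : t)] at h2
      · rw [ap_smul, hpr, if_pos rfl] at h2
        refine Eq.trans ?_ h2
        refine ((congrArg (fun r : O.obj.obj (op V) => rC k (f ⟨i, hi⟩) * r) ?_).trans (mul_one _)).symm
        exact map_one _
      · intro j _ hj
        rw [ap_smul, hpr, if_neg fun e => hj (Subtype.ext e)]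
        refine (congrArg (fun r : O.obj.obj (op V) => rC k (f j) * r) ?_).trans (mul_zero _)
        exact map_zero _
      · exact fun h => absurd (Finset.mem_univ _) h
    exact (hf ⟨i, hi⟩).symm.trans ((germRing_res_of_eq p hz (f ⟨i, hi⟩)).symm.trans
      (by rw [h1, germRing_zero]))
  exact ⟨Module.Basis.mk hli hspan, fun i => Module.Basis.mk_apply hli hspan i⟩

end Groth.Agent.LocalGenLib
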