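import Groth.Agent.LocalGenLib.Basic

/-!
# Finite presentations by sections
-/

set_option autoImplicit false
set_option linter.style.haveILetI false
set_option backward.isDefEq.respectTransparency false
universe u

open CategoryTheory Limits Opposite Groth.Agent.ModSiteLib Groth.Agent.ModSiteLib.SetPull ModSiteLib

namespace Groth.Agent.LocalGenLib

variable {C : Type u} [SmallCategory C] {J : GrothendieckTopology C} {O : Sheaf J CommRingCat.{u}}

lemma rC_zero {A B : C} (g : B ⟶ A) : rC g (0 : O.obj.obj (op A)) = 0 := map_zero _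

lemma res_zero' {F : ModSite.Mod O} {A B : C} (g : B ⟶ A) :
    ModSiteLib.res ((jP O).obj F) g.op 0 = 0 := map_zero (((jP O).obj F).map g.op).hom

/-- `e` generates and the rows of `c` generate the relations of `e`. -/
structure PresBy (F : ModSite.Mod O) (U : C) {ι κ : Type} [Fintype ι] [Fintype κ] (e : ι → Sec F U)
    (c : κ → ι → O.obj.obj (op U)) : Prop where
  gen : GenBy F U e
  rel : ∀ b, ∑ a, c b a • e a = 0
  ker : ∀ {V : C} (g : V ⟶ U) (d : ι → O.obj.obj (op V)),
    ∑ a, d a • ModSiteLib.res ((jP O).obj F) g.op (e a) = 0 → Loc J V fun V' g' =>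
      ∃ y : κ → O.obj.obj (op V'), ∀ a, rC g' (d a) = ∑ b, y b * rC (g' ≫ g) (c b a)

/-- `F` is finitely presented over `U`. -/
def HasPres (F : ModSite.Mod O) (U : C) : Prop :=
  ∃ (n m : ℕ) (e : Fin n → Sec F U) (c : Fin m → Fin n → O.obj.obj (op U)), PresBy F U e c

theorem PresBy.comp_equiv {F : ModSite.Mod O} {U : C} {ι κ ι' κ' : Type} [Fintype ι] [Fintype κ]
    [Fintype ι'] [Fintype κ'] {e : ι → Sec F U} {c : κ → ι → O.obj.obj (op U)} (h : PresBy F U e c)
    (σ : ι' ≃ ι) (τ : κ' ≃ κ) : PresBy F U (e ∘ σ) (fun b a => c (τ b) (σ a)) where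
  gen := GenBy.comp_equiv h.gen σ
  rel b := (σ.sum_comp fun a => c (τ b) a • e a).trans (h.rel (τ b))
  ker {V} g d hd := by
    have hd' : ∑ a, (d ∘ σ.symm) a • ModSiteLib.res ((jP O).obj F) g.op (e a) = 0 := by
      refine (σ.sum_comp fun a => (d ∘ σ.symm) a • ModSiteLib.res ((jP O).obj F) g.op (e a)).symm.trans ?_
      refine Eq.trans (Finset.sum_congr rfl fun a _ => ?_) hd
      simp only [Function.comp, Equiv.symm_apply_apply]
    refine (h.ker g _ hd').mono fun V' g' ⟨y, hy⟩ => ⟨y ∘ τ, fun a => ?_⟩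
    have := hy (σ a)
    simp only [Function.comp, Equiv.symm_apply_apply] at this
    exact this.trans (τ.sum_comp fun b => y b * rC (g' ≫ g) (c b (σ a))).symm

theorem PresBy.hasPres {F : ModSite.Mod O} {U : C} {ι κ : Type} [Fintype ι] [Fintype κ]
    {e : ι → Sec F U} {c : κ → ι → O.obj.obj (op U)} (h : PresBy F U e c) : HasPres F U :=
  ⟨_, _, _, _, h.comp_equiv (Fintype.equivFin ι).symm (Fintype.equivFin κ).symm⟩

theorem PresBy.res {F : ModSite.Mod O} {U U' : C} {ι κ : Type} [Fintype ι] [Fintype κ]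
    {e : ι → Sec F U} {c : κ → ι → O.obj.obj (op U)} (h : PresBy F U e c) (k : U' ⟶ U) :
    PresBy F U' (fun a => ModSiteLib.res ((jP O).obj F) k.op (e a)) (fun b a => rC k (c b a)) where
  gen := GenBy.res h.gen k
  rel b := (res_comb k (c b) e).symm.trans
    ((congrArg (ModSiteLib.res ((jP O).obj F) k.op) (h.rel b)).trans (res_zero' k))
  ker {V} g d hd := by
    refine (h.ker (g ≫ k) d ((Finset.sum_congr rfl fun a _ => by rw [res_op_comp]).trans hd)).mono
      fun V' g' ⟨y, hy⟩ => ⟨y, fun a => (hy a).trans (Finset.sum_congr rfl fun b _ => ?_)⟩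
    rw [← rC_comp, Category.assoc]

theorem HasPres.hasGen {F : ModSite.Mod O} {U : C} (h : HasPres F U) : HasGen F U := by
  obtain ⟨n, m, e, c, he⟩ := h
  exact ⟨n, e, he.gen⟩

theorem HasPres.res {F : ModSite.Mod O} {U U' : C} (h : HasPres F U) (k : U' ⟶ U) : HasPres F U' := by
  obtain ⟨n, m, e, c, he⟩ := h
  exact ⟨n, m, _, _, he.res k⟩

theorem locally_hasPres (F : ModSite.Mod O) [hF : SheafOfModules.IsFinitePresentation.{u} F] :
    LocallyEverywhere J (HasPres F) := by
  obtain ⟨σ, hσ⟩ := hF.exists_quasicoherentData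
  intro Y
  refine ⟨_, σ.coversTop Y, fun V g hg => ?_⟩
  obtain ⟨i, ⟨k⟩⟩ := (Sieve.mem_ofObjects_iff _ g).1 hg
  haveI := hσ.isFinite_presentation i
  obtain ⟨P⟩ := nonempty_finPres F (σ.X i) (σ.presentation i)
  exact HasPres.res ⟨P.n, P.m, P.e, P.c, ⟨P.gen, P.rel, P.ker⟩⟩ k

section ToPresentation

variable {U : C} {F : ModSite.Mod O}

lemma sum_coeff_eq {L : Type u} [Fintype L] (V : Over U) (d : L → O.obj.obj (op V.left))
    (s : L → Sec F U) :
    ap (toRestr F s) V (∑ i, d i • ModSiteLib.res ((jP (O.over U)).obj (SheafOfModules.free L))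
        ((Over.mkIdTerminal : IsTerminal (Over.mk (𝟙 U))).from V).op
        (freeSec (O.over U) (Over.mk (𝟙 U)) L i)) =
      ∑ i, d i • ModSiteLib.res ((jP O).obj F) V.hom.op (s i) := by
  rw [ap_sum]
  exact Finset.sum_congr rfl fun i _ =>
    (ap_smul _ V _ _).trans (congrArg (d i • ·) (ap_toRestr F s V i))

theorem exists_presentation {ι κ : Type} [Fintype ι] [Fintype κ] {e : ι → Sec F U}
    {c : κ → ι → O.obj.obj (op U)} (h : PresBy F U e c) :
    ∃ P : SheafOfModules.Presentation.{u} ((ModSite.restr O U).obj F), P.IsFinite := by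
  let L := ULift.{u} ι
  let K := ULift.{u} κ
  let T : Over U := Over.mk (𝟙 U)
  let hT : IsTerminal T := Over.mkIdTerminal
  let σ := generatorsOfGenBy h.gen
  let π : SheafOfModules.free (R := ModSite.ringSh (O.over U)) L ⟶ (ModSite.restr O U).obj F :=
    toRestr F fun a => e a.down
  let f : L → Sec (SheafOfModules.free (R := ModSite.ringSh (O.over U)) L) T :=
    freeSec (O.over U) T L
  let rv : K → Sec (SheafOfModules.free (R := ModSite.ringSh (O.over U)) L) T := fun b =>
    ∑ a : L, (show (O.over U).obj.obj (op T) from c b.down a.down) • f a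
  have hrv : ∀ b, ap π T (rv b) = 0 := fun b => by
    refine (ap_sum π T _ _).trans ?_
    refine Eq.trans ?_ (h.rel b.down)
    refine Eq.trans (Finset.sum_congr rfl fun a _ => ?_)
      (Equiv.ulift.{u}.sum_comp fun a => c b.down a • e a)
    exact (ap_smul π T _ _).trans (congrArg _
      (ap_freeLift (T := T) hT (M := (ModSite.restr O U).obj F) _ a))
  have hr₀ : ∀ b, ∃ r : Sec (kernel π) T, ap (kernel.ι π) T r = rv b := fun b =>
    exists_kernel_section π T (rv b) (hrv b)
  choose r hr using hr₀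
  let ρπ : SheafOfModules.free (R := ModSite.ringSh (O.over U)) K ⟶ kernel π := freeLift hT r
  haveI : Epi ρπ := by
    refine epi_of_loc_surjective ρπ fun V z => ?_
    refine ((loc_free hT (ap (kernel.ι π) V z)).bind (q := fun V' (g : V' ⟶ V) =>
      ∃ p, ap ρπ V' p = ModSiteLib.res ((jP (O.over U)).obj (kernel π)) g.op z) fun V' g ⟨d, hd⟩ => ?_)
    have hz : ap π V (ap (kernel.ι π) V z) = 0 :=
      (ap_comp (kernel.ι π) π V z).symm.trans (by rw [kernel.condition]; rfl)
    have hd0 : ∑ a : ι, d ⟨a⟩ • ModSiteLib.res ((jP O).obj F) V'.hom.op (e a) = 0 := by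
      refine (Equiv.ulift.{u}.sum_comp fun a =>
        d ⟨a⟩ • ModSiteLib.res ((jP O).obj F) V'.hom.op (e a)).symm.trans ?_
      refine (sum_coeff_eq V' d (fun a => e a.down)).symm.trans ?_
      refine (congrArg (ap π V') hd.symm).trans ?_
      refine (app_res ((jP (O.over U)).map π) g.op _).trans ?_
      exact (congrArg (fun t => ModSiteLib.res ((jP (O.over U)).obj _) g.op t) hz).trans
        (res_zero' (O := O.over U) g)
    obtain ⟨S, hS, hp⟩ := h.ker V'.hom (fun a => d ⟨a⟩) hd0
    refine ⟨(Sieve.overEquiv V').symm S, J.overEquiv_symm_mem_over V' S hS, fun V'' g' hg' => ?_⟩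
    rw [Sieve.overEquiv_symm_iff] at hg'
    obtain ⟨y, hy⟩ := hp _ hg'
    refine ⟨∑ b : K, y b.down • ModSiteLib.res ((jP (O.over U)).obj (SheafOfModules.free K))
      (hT.from V'').op (freeSec (O.over U) T K b), ?_⟩
    apply injective_ap_of_mono (kernel.ι π) V''
    refine Eq.trans ?_ ((app_res ((jP (O.over U)).map (kernel.ι π)) (g' ≫ g).op z).symm)
    rw [op_comp, ← res_comp]
    refine Eq.trans ?_ (congrArg (ModSiteLib.res _ g'.op) hd).symm
    rw [ap_sum, ap_sum, res_sum]
    have e1 : ∀ b : K, ap (kernel.ι π) V'' (ap ρπ V'' (y b.down • ModSiteLib.res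
        ((jP (O.over U)).obj (SheafOfModules.free K)) (hT.from V'').op (freeSec (O.over U) T K b))) =
        ∑ a : L, ((y b.down) * rC (hT.from V'').left (c b.down a.down)) •
          ModSiteLib.res ((jP (O.over U)).obj (SheafOfModules.free L)) (hT.from V'').op (f a) := by
      intro b
      rw [ap_smul, ap_smul]
      refine (congrArg (y b.down • ·) ?_).trans ((Finset.smul_sum).trans
        (Finset.sum_congr rfl fun a _ => (mul_smul _ _ _).symm))
      refine (congrArg (ap (kernel.ι π) V'') (app_res ((jP (O.over U)).map ρπ) _ _)).trans ?_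
      refine (app_res ((jP (O.over U)).map (kernel.ι π)) _ _).trans ?_
      refine (congrArg (ModSiteLib.res _ (hT.from V'').op)
        ((congrArg (ap (kernel.ι π) T) (ap_freeLift hT r b)).trans (hr b))).trans ?_
      exact res_comb (O := O.over U) (hT.from V'') _ f
    rw [Finset.sum_congr rfl fun b _ => e1 b, Finset.sum_comm]
    refine Finset.sum_congr rfl fun a _ => ?_
    rw [← Finset.sum_smul, res_smul, res_comp]
    have e2 : g'.op = g'.op := rfl
    rw [← op_comp, hT.hom_ext (g' ≫ hT.from V') (hT.from V'')]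
    refine congrArg (· • _) ?_
    refine (Equiv.ulift.{u}.sum_comp fun b => y b * rC (hT.from V'').left (c b a.down)).trans ?_
    refine Eq.trans ?_ (hy a.down).symm
    refine Finset.sum_congr rfl fun b _ => ?_
    rw [terminal_from_left, Over.w g']
    rfl
  refine ⟨⟨σ, ?_⟩, ?_⟩
  · exact { I := K
            s := (kernel σ.π).freeHomEquiv (ρπ ≫ eqToHom (by rw [generatorsOfGenBy_π]; rfl))
            epi := by rw [Equiv.symm_apply_apply]; infer_instance }
  · exact { isFiniteType_generators := inferInstance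
            isFiniteType_relations := ⟨inferInstanceAs (Finite K)⟩ }

end ToPresentation

theorem isFinitePresentation_of_locally (F : ModSite.Mod O) (h : LocallyEverywhere J (HasPres F)) :
    SheafOfModules.IsFinitePresentation.{u} F := by
  have hcov : J.CoversTop fun i : {V : C // HasPres F V} => i.1 := fun Y => by
    obtain ⟨S, hS, hp⟩ := h Y
    refine J.superset_covering (fun V g hg => ?_) hS
    exact (Sieve.mem_ofObjects_iff _ g).2 ⟨⟨V, hp g hg⟩, ⟨𝟙 _⟩⟩
  have hP : ∀ i : {V : C // HasPres F V},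
      ∃ P : SheafOfModules.Presentation.{u} (F.over i.1), P.IsFinite := fun i => by
    obtain ⟨n, m, e, c, he⟩ := i.2
    exact exists_presentation he
  choose P hPf using hP
  let q : SheafOfModules.QuasicoherentData.{u, u, u, u} (R := ModSite.ringSh O) F :=
    @SheafOfModules.QuasicoherentData.mk C _ J (ModSite.ringSh O) _ _ F
      {V : C // HasPres F V} (fun i => i.1) hcov P
  have hq : q.IsFinitePresentation := by
    constructor
    intro i
    exact hPf i
  constructor
  exact ⟨q, hq⟩

end Groth.Agent.LocalGenLib
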